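import Groth.Agent.ResProp.EF.K601.FinK
import Groth.Agent.ResProp.EF.K412.Asm
import Groth.Agent.ResProp.EF.K588.M6

/-!
# M8 of G1: the FIN datum of `D = Fr 0 φ` over `D0`, for `MidData`

Input: the `G`-part `GF : GK A (K62.coAlg F hX hXm) Z` on `F.R`.
-/

set_option autoImplicit false
set_option linter.style.haveILetI false
set_option linter.unusedSectionVars false

universe u

open TensorProduct Groth.Agent.Grpsch.AffGrpd

noncomputable section

namespace Groth.Agent.ResProp.EF.K601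

open K83 K541 K199 K412

variable {A B : Type u} [CommRing A] [CommRing B] {Lb : Type u} [CommRing Lb] [Algebra Lb A] {G : RGrpd A B}
  {D : Gen Lb G} {κ : Type u} [Field κ] {x : A →+* κ} {F : FrRing D x} (M : MidData F)

/-- the index set of the `s_IJ` -/
abbrev IJ (F : FrRing D x) : Type := (Fin F.r1 → Fin D.n) × (Fin F.rm → (Fin D.m → Fin D.n))

instance : Nonempty (IJ F) := ⟨(fun _ => D.i0, fun _ _ => D.i0)⟩

/-- `D0` as an `A`-algebra -/
@[reducible] def algAD0 : Algebra A M.D0 := M.p.toAlgebra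

theorem isExt : IsExt F.R M.D0 (K819.sIJ F) := fun ψ h => M.pts ψ h

/-- `s_IJ` is in the radical of `(φ)` in `D0` -/
theorem sIJ_mem_radical {n : Type*} (φ : n → M.B0) (rad : M.I ≤ (Ideal.span (Set.range φ)).radical) (z : IJ F) :
    algebraMap F.R M.D0 (K819.sIJ F z) ∈ (Ideal.span (Set.range fun i => algebraMap M.B0 M.D0 (φ i))).radical := by
  rw [Ideal.radical_eq_sInf, Submodule.mem_sInf]
  rintro P ⟨hP1, hP⟩
  by_contra hz
  refine (M.cov P hP).1 ⟨z, hz⟩ (rad.trans ?_)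
  haveI := hP
  refine (Ideal.IsPrime.radical_le_iff (Ideal.IsPrime.comap (algebraMap M.B0 M.D0) (K := P))).2 ?_
  rw [Ideal.span_le]
  rintro _ ⟨i, rfl⟩
  exact hP1 (Ideal.subset_span ⟨i, rfl⟩)

section Span

variable {n : Type} [Fintype n] [DecidableEq n] (i0 : n) (φ : n → M.B0)

/-- the `s_IJ` generate the unit ideal of `Fr i0 φ` -/
theorem span_sIJ (hφ : ∀ i, φ i ∈ M.I) : Ideal.span (Set.range fun z : IJ F =>
    algebraMap M.D0 (K58.Fr i0 fun i => algebraMap M.B0 M.D0 (φ i)) (algebraMap F.R M.D0 (K819.sIJ F z))) = ⊤ := by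
  by_contra hne
  obtain ⟨Q, hQ, hle⟩ := Ideal.exists_le_maximal _ hne
  haveI := hQ.isPrime
  let P : Ideal M.D0 := Q.comap (algebraMap M.D0 (K58.Fr i0 fun i => algebraMap M.B0 M.D0 (φ i)))
  have hP : P.IsPrime := Ideal.IsPrime.comap _
  have h1 : ¬ ∃ z, algebraMap F.R M.D0 (K819.sIJ F z) ∉ P := by
    rintro ⟨z, hz⟩
    exact hz (hle (Ideal.subset_span ⟨z, rfl⟩))
  rw [M.cov P hP, not_not] at h1
  -- the column of the universal matrix is in `Q`
  have h2 : ∀ i, K58.mat i0 (fun i => algebraMap M.B0 M.D0 (φ i)) i i0 ∈ Q := by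
    intro i
    rw [K58.mat_col]
    exact h1 (hφ i)
  have h3 : (K58.mat i0 (fun i => algebraMap M.B0 M.D0 (φ i))).det ∈ Q := by
    rw [← Ideal.Quotient.eq_zero_iff_mem, RingHom.map_det]
    refine Matrix.det_eq_zero_of_column_eq_zero i0 fun i => ?_
    rw [RingHom.mapMatrix_apply, Matrix.map_apply]
    exact Ideal.Quotient.eq_zero_iff_mem.2 (h2 i)
  exact hQ.ne_top (Ideal.eq_top_of_isUnit_mem _ h3 (K58.isUnit_det_mat i0 _))

end Span

/-- towers on the frame algebra -/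
instance towerFr {k A' B' : Type u} [CommRing k] [CommRing A'] [CommRing B'] [Algebra k A'] [Algebra A' B'] [Algebra k B']
    [IsScalarTower k A' B'] {n : Type} [Fintype n] [DecidableEq n] {i0 : n} {φ : n → B'} :
    IsScalarTower k A' (K58.Fr i0 φ) := IsScalarTower.of_algebraMap_eq fun r => by
  rw [IsScalarTower.algebraMap_apply k B' (K58.Fr i0 φ), IsScalarTower.algebraMap_apply A' B' (K58.Fr i0 φ),
    IsScalarTower.algebraMap_apply k A' B']

section Main

variable {O : Type u} [CommRing O] [HopfAlgebra Lb O] {X : Matrix (Fin F.r1) (Fin F.r1) O}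
  {Xm : Matrix (Fin F.rm) (Fin F.rm) O} {hX : K62.IsMulMat Lb X} {hXm : K62.IsMulMat Lb Xm} (c : CoMid M hX hXm)
  {n : Type} [Fintype n] [DecidableEq n] {i0 : n} {φ : n → M.B0} {Rm : Matrix n n O}
  {O' : Type u} [CommRing O'] [HopfAlgebra Lb O'] {iG : O →ₐc[Lb] O'} {h' : Matrix n n O'}

/-- **M8**: the FIN datum of `Fr i0 φ` over `D0` in `k`-form -/
def finK [IsNoetherianRing A] [Algebra A M.D0] [IsScalarTower Lb A M.D0] (hA : algebraMap A M.D0 = M.p)
    (GF : GK A (K62.coAlg F hX hXm) (IJ F)) (hGF : GF.s = K819.sIJ F) (hφ : ∀ i, φ i ∈ M.I)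
    (rad : M.I ≤ (Ideal.span (Set.range φ)).radical)
    {cD : CoAlg Lb O' (K58.Fr i0 fun i => algebraMap M.B0 M.D0 (φ i))}
    (hF : FrData (i0 := i0) c.c0 (fun i => algebraMap M.B0 M.D0 (φ i)) Rm (iG : O →ₐ[Lb] O') h'
      (K58.mat i0 fun i => algebraMap M.B0 M.D0 (φ i)) cD) : FinK A cD := by
  haveI : IsScalarTower A F.R M.D0 := IsScalarTower.of_algebraMap_eq' hA
  let G0 : GK A c.c0 (IJ F) := GF.ext (D0 := M.D0) (by rw [hGF]; exact isExt M) c.c0 c.c0_R
  have hG0 : ∀ z, G0.s z = algebraMap F.R M.D0 (K819.sIJ F z) := fun z => by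
    change algebraMap F.R M.D0 (GF.s z) = _
    rw [hGF]
  let G1 : GK A cD (IJ F) := G0.frame hF (G0.hχ.map iG) (fun z => by
    rw [hG0]
    exact sIJ_mem_radical M φ rad z)
  refine G1.toFinK ?_ (K588.m6_isNoetherianRing M i0 φ hφ)
  rw [← span_sIJ M i0 φ hφ]
  refine congrArg (fun f => Ideal.span (Set.range f)) (funext fun z => ?_)
  change algebraMap M.D0 _ (G0.s z) = _
  rw [hG0]

/-- the coaction is `A`-linear -/
theorem linR [Algebra A M.D0] [IsScalarTower Lb A M.D0] (hA : algebraMap A M.D0 = M.p)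
    {cD : CoAlg Lb O' (K58.Fr i0 fun i => algebraMap M.B0 M.D0 (φ i))}
    (hF : FrData (i0 := i0) c.c0 (fun i => algebraMap M.B0 M.D0 (φ i)) Rm (iG : O →ₐ[Lb] O') h'
      (K58.mat i0 fun i => algebraMap M.B0 M.D0 (φ i)) cD) : LinR A cD := by
  intro a
  have e1 : algebraMap A (K58.Fr i0 fun i => algebraMap M.B0 M.D0 (φ i)) a =
      algebraMap M.D0 (K58.Fr i0 fun i => algebraMap M.B0 M.D0 (φ i)) (algebraMap F.R M.D0 (F.P.a a)) := by
    rw [IsScalarTower.algebraMap_apply A M.D0 (K58.Fr i0 fun i => algebraMap M.B0 M.D0 (φ i)), hA]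
    rfl
  rw [e1, hF.hc1, c.c0_R, K62.rho_a]
  simp

/-- **M8**: the FIN datum over `A` -/
def finD [IsNoetherianRing A] [Algebra A M.D0] [IsScalarTower Lb A M.D0] (hA : algebraMap A M.D0 = M.p)
    (GF : GK A (K62.coAlg F hX hXm) (IJ F)) (hGF : GF.s = K819.sIJ F) (hφ : ∀ i, φ i ∈ M.I)
    (rad : M.I ≤ (Ideal.span (Set.range φ)).radical)
    {cD : CoAlg Lb O' (K58.Fr i0 fun i => algebraMap M.B0 M.D0 (φ i))}
    (hF : FrData (i0 := i0) c.c0 (fun i => algebraMap M.B0 M.D0 (φ i)) Rm (iG : O →ₐ[Lb] O') h'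
      (K58.mat i0 fun i => algebraMap M.B0 M.D0 (φ i)) cD) :
    K83.FinDatum A (A ⊗[Lb] O') (K58.Fr i0 fun i => algebraMap M.B0 M.D0 (φ i)) (coR cD (linR M c hA hF)) :=
  (finK M c hA GF hGF hφ rad hF).toR (linR M c hA hF)

end Main

end Groth.Agent.ResProp.EF.K601
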