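import Groth.Agent.Hoch.K915.Basic
import Groth.Prelude.Def_Hoch

/-!
# Cofree comodules are acyclic (node B3' of G6b)

`R` a commutative ring, `A` a bialgebra over `R`, `P` an `R`-module, the cofree comodule `P ⊗ A` (`Hoch.Ind R A P`, or
`P ⊗[R] A` with any comodule structure whose coaction is `id ⊗ Δ`, or any comodule isomorphic to it):
`H^j = 0` for `j > 0`, and the invariants are `P ⊗ 1`.
-/

set_option autoImplicit false

universe u v

open TensorProduct

namespace Groth.Agent.ResProp.EF.K601.Cofree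

variable (R : Type u) [CommRing R] (A : Type v) [Ring A] [Bialgebra R A] (P : Type v) [AddCommGroup P] [Module R P]

/-- every cocycle of positive degree of the induced comodule is a coboundary -/
theorem exists_d_eq (n : ℕ) (z : Hoch.cochain R A (Hoch.Ind R A P) (n + 1))
    (hz : Hoch.d R A (Hoch.Ind R A P) (n + 1) z = 0) :
    Hoch.d R A (Hoch.Ind R A P) n (K915.HochBasic.s R A P n z) = z := by
  have h := LinearMap.congr_fun (K915.HochBasic.homotopy R A P n) z
  rw [LinearMap.add_apply, LinearMap.comp_apply, hz, map_zero, zero_add] at h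
  exact h

/-- **B3'**: `H^j(A, P ⊗ A) = 0` for `j > 0` -/
theorem subsingleton_H_ind (j : ℕ) (hj : 0 < j) : Subsingleton (Hoch.H R A (Hoch.Ind R A P) j) := by
  obtain ⟨n, rfl⟩ : ∃ n, j = n + 1 := ⟨j - 1, by omega⟩
  rw [Submodule.Quotient.subsingleton_iff, eq_top_iff]
  rintro ⟨z, hz⟩ -
  exact ⟨K915.HochBasic.s R A P n z, exists_d_eq R A P n z hz⟩

/-- the invariants of the induced comodule -/
theorem coactAux_eq_iff (x : P ⊗[R] A) :
    Hoch.Ind.coactAux R A P x = x ⊗ₜ[R] (1 : A) ↔ ∃ p : P, x = p ⊗ₜ[R] (1 : A) := by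
  constructor
  · intro h
    refine ⟨(TensorProduct.rid R P) ((Coalgebra.counit (R := R) (A := A)).lTensor P x), ?_⟩
    have h1 := congrArg (K915.HochBasic.s0 R A P) h
    rw [← LinearMap.comp_apply, K915.HochBasic.s0_comp_coact, LinearMap.id_apply] at h1
    exact h1
  · rintro ⟨p, rfl⟩
    rw [Hoch.Ind.coactAux_tmul, Bialgebra.comul_one, Algebra.TensorProduct.one_def]
    rfl

theorem comod_ext {V : Type v} [AddCommGroup V] [Module R V] (c c' : HopfRep.Comod R A V)
    (h : c.coact = c'.coact) : c = c' := by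
  cases c; cases c'; cases h; rfl

/-- **B3'** for `P ⊗ A` with any comodule structure whose coaction is `id ⊗ Δ` -/
theorem subsingleton_H (co : HopfRep.Comod R A (P ⊗[R] A)) (hco : co.coact = Hoch.Ind.coactAux R A P) (j : ℕ)
    (hj : 0 < j) : Subsingleton (@Hoch.H R _ A _ _ (P ⊗[R] A) _ _ co j) := by
  have h : co = (Hoch.Ind.comod R A P : HopfRep.Comod R A (P ⊗[R] A)) := comod_ext R A co _ hco
  subst h
  exact subsingleton_H_ind R A P j hj

/-- elementwise form: a cocycle of positive degree with values in `P ⊗ A` (coaction `id ⊗ Δ`) is a coboundary -/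
theorem exists_d (co : HopfRep.Comod R A (P ⊗[R] A)) (hco : co.coact = Hoch.Ind.coactAux R A P) (n : ℕ)
    (z : @Hoch.cochain R _ A _ _ (P ⊗[R] A) _ _ (n + 1)) (hz : @Hoch.d R _ A _ _ (P ⊗[R] A) _ _ co (n + 1) z = 0) :
    ∃ y, @Hoch.d R _ A _ _ (P ⊗[R] A) _ _ co n y = z := by
  have h : co = (Hoch.Ind.comod R A P : HopfRep.Comod R A (P ⊗[R] A)) := comod_ext R A co _ hco
  subst h
  exact ⟨_, exists_d_eq R A P n z hz⟩

/-- the invariants of `P ⊗ A` -/
theorem coact_eq_iff (co : HopfRep.Comod R A (P ⊗[R] A)) (hco : co.coact = Hoch.Ind.coactAux R A P) (x : P ⊗[R] A) :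
    co.coact x = x ⊗ₜ[R] (1 : A) ↔ ∃ p : P, x = p ⊗ₜ[R] (1 : A) := by
  rw [hco]
  exact coactAux_eq_iff R A P x

/-- `p ↦ p ⊗ 1` is injective -/
theorem mk_one_injective : Function.Injective fun p : P => p ⊗ₜ[R] (1 : A) := by
  intro p q h
  have h1 := congrArg (fun x => (TensorProduct.rid R P) ((Coalgebra.counit (R := R) (A := A)).lTensor P x)) h
  simpa using h1

end Groth.Agent.ResProp.EF.K601.Cofree
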