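import Mathlib.RingTheory.Noetherian.Basic
import Mathlib.RingTheory.Finiteness.Basic
import Mathlib.LinearAlgebra.TensorProduct.Basis
import Mathlib.LinearAlgebra.TensorProduct.Tower
import Mathlib.RingTheory.Coalgebra.Basic
import Mathlib.Algebra.Order.Antidiag.Finsupp

/-!
# Cohomology of the divided power group `V^#`: finiteness and vanishing, one operator at a time

(S16912, helper980 1.3, helper83 F9.)  `P1`: for a cochain complex `I` of modules over a Noetherian ring with commuting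
operators `N_1, .., N_r` such that `N_i` is onto on the common kernel of `N_1, .., N_(i-1)`, the subcomplex of common kernels
has finitely generated cohomology if `I` has, and its cohomology vanishes in degrees `> b + r` if that of `I` vanishes in
degrees `> b`.  `P2`: comodules over the divided power coalgebra.
-/

set_option autoImplicit false

namespace Groth.Agent.ResProp.EF.K601.PD

open Submodule

section P1

variable {D : Type*} [CommRing D]

/-- lifting generators along a linear map, relative to a submodule -/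
theorem exists_fg_lift [IsNoetherianRing D] {X Y : Type*} [AddCommGroup X] [Module D X] [AddCommGroup Y] [Module D Y]
    (f : X →ₗ[D] Y) (Q S : Submodule D Y) (hS : S.FG) (W : Submodule D X) (h : W.map f ≤ S ⊔ Q) :
    ∃ T : Submodule D X, T.FG ∧ T ≤ W ∧ W ≤ T ⊔ (W ⊓ Q.comap f) := by
  classical
  set g : X →ₗ[D] Y ⧸ Q := Q.mkQ.comp f with hg
  have hQ : Q.map Q.mkQ = ⊥ := by
    exact Submodule.mkQ_map_self Q
  have h1 : (W.map g).FG := by
    have h2 : W.map g ≤ S.map Q.mkQ := by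
      rw [hg, Submodule.map_comp]
      refine (Submodule.map_mono h).trans ?_
      rw [Submodule.map_sup, hQ, sup_bot_eq]
    have : IsNoetherian D (S.map Q.mkQ) := isNoetherian_of_fg_of_noetherian _ (hS.map _)
    exact Submodule.FG.of_le_of_isNoetherian h2
  obtain ⟨t, ht⟩ := h1
  have h3 : ∀ y ∈ t, ∃ x ∈ W, g x = y := fun y hy => by
    have : y ∈ W.map g := ht ▸ Submodule.subset_span hy
    exact this
  choose! s hsW hsg using h3
  refine ⟨Submodule.span D (t.image s : Finset X), ⟨_, rfl⟩, ?_, ?_⟩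
  · rw [Submodule.span_le]
    intro x hx
    obtain ⟨y, hy, rfl⟩ := Finset.mem_image.mp (Finset.mem_coe.mp hx)
    exact hsW y hy
  · intro w hw
    have h4 : g w ∈ (Submodule.span D (t.image s : Finset X)).map g := by
      rw [Submodule.map_span]
      have h5 : g w ∈ Submodule.span D (t : Set (Y ⧸ Q)) := ht ▸ Submodule.mem_map_of_mem hw
      refine Submodule.span_mono ?_ h5
      intro y hy
      exact ⟨s y, by simpa using ⟨y, hy, rfl⟩, hsg y hy⟩
    obtain ⟨x, hx, hxw⟩ := h4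
    have hxW : x ∈ W := by
      refine (Submodule.span_le.mpr ?_) hx
      intro x hx
      obtain ⟨y, hy, rfl⟩ := Finset.mem_image.mp (Finset.mem_coe.mp hx)
      exact hsW y hy
    refine Submodule.mem_sup.mpr ⟨x, hx, w - x, ⟨W.sub_mem hw hxW, ?_⟩, by abel⟩
    have h6 : g (w - x) = 0 := by rw [map_sub, hxw, sub_self]
    exact (Submodule.Quotient.mk_eq_zero Q).mp h6

variable {A B C : Type*} [AddCommGroup A] [Module D A] [AddCommGroup B] [Module D B] [AddCommGroup C] [Module D C]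

/-- one step, finiteness -/
theorem step_fg [IsNoetherianRing D] (d₁ : A →ₗ[D] B) (d₂ : B →ₗ[D] C) (NA : A →ₗ[D] A) (NB : B →ₗ[D] B)
    (hc : ∀ a, d₁ (NA a) = NB (d₁ a)) (LA BA : Submodule D A) (LB : Submodule D B)
    (hLA : ∀ a ∈ LA, NA a ∈ LA)
    (hBA : ∀ b ∈ BA, ∃ v ∈ LA, d₁ v = 0 ∧ NA v = b)
    (SA : Submodule D A) (hSA : SA.FG) (hA : LA ⊓ LinearMap.ker d₁ ≤ SA ⊔ BA)
    (SB : Submodule D B) (hSB : SB.FG) (hB : LB ⊓ LinearMap.ker d₂ ≤ SB ⊔ LA.map d₁) :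
    ∃ S : Submodule D B, S.FG ∧
      (LB ⊓ LinearMap.ker NB) ⊓ LinearMap.ker d₂ ≤ S ⊔ (LA ⊓ LinearMap.ker NA).map d₁ := by
  -- first step
  obtain ⟨T, hT, hTZ, hZT⟩ := exists_fg_lift (LinearMap.id : B →ₗ[D] B) (LA.map d₁) SB hSB
    ((LB ⊓ LinearMap.ker NB) ⊓ LinearMap.ker d₂) (by
      rw [Submodule.map_id]
      refine le_trans ?_ hB
      exact inf_le_inf_right _ inf_le_left)
  -- second step
  obtain ⟨T', hT', hTW, hWT⟩ := exists_fg_lift NA BA SA hSA (LA ⊓ LinearMap.ker (NB.comp d₁)) (by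
      rintro _ ⟨w, ⟨hw, hw'⟩, rfl⟩
      exact hA ⟨hLA w hw, (hc w).trans hw'⟩)
  refine ⟨T ⊔ T'.map d₁, hT.sup (hT'.map _), ?_⟩
  intro z hz
  obtain ⟨t, ht, z', hz', rfl⟩ := Submodule.mem_sup.mp (hZT hz)
  obtain ⟨w, hw, hwz⟩ := hz'.2
  rw [LinearMap.id_apply] at hwz
  have hwW : w ∈ LA ⊓ LinearMap.ker (NB.comp d₁) := ⟨hw, (congrArg NB hwz).trans hz'.1.1.2⟩
  obtain ⟨t', ht', w', hw', rfl⟩ := Submodule.mem_sup.mp (hWT hwW)
  obtain ⟨v, hv, hdv, hNv⟩ := hBA _ hw'.2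
  rw [← hwz, map_add]
  refine Submodule.add_mem _ (Submodule.mem_sup_left (Submodule.mem_sup_left ht)) (Submodule.add_mem _
    (Submodule.mem_sup_left (Submodule.mem_sup_right (Submodule.mem_map_of_mem ht'))) (Submodule.mem_sup_right
      ⟨w' - v, ⟨LA.sub_mem hw'.1.1 hv, ?_⟩, ?_⟩))
  · change NA (w' - v) = 0
    rw [map_sub, hNv, sub_self]
  · rw [map_sub, hdv, sub_zero]

/-- one step, vanishing -/
theorem step_zero (d₁ : A →ₗ[D] B) (d₂ : B →ₗ[D] C) (NA : A →ₗ[D] A) (NB : B →ₗ[D] B)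
    (hc : ∀ a, d₁ (NA a) = NB (d₁ a)) (LA BA : Submodule D A) (LB : Submodule D B)
    (hLA : ∀ a ∈ LA, NA a ∈ LA)
    (hBA : ∀ b ∈ BA, ∃ v ∈ LA, d₁ v = 0 ∧ NA v = b)
    (hA : LA ⊓ LinearMap.ker d₁ ≤ BA)
    (hB : LB ⊓ LinearMap.ker d₂ ≤ LA.map d₁) :
    (LB ⊓ LinearMap.ker NB) ⊓ LinearMap.ker d₂ ≤ (LA ⊓ LinearMap.ker NA).map d₁ := by
  rintro z ⟨⟨hz, hz1⟩, hz2⟩
  obtain ⟨w, hw, rfl⟩ := hB ⟨hz, hz2⟩
  have h1 : NA w ∈ LA ⊓ LinearMap.ker d₁ := ⟨hLA w hw, (hc w).trans hz1⟩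
  obtain ⟨v, hv, hdv, hNv⟩ := hBA _ (hA h1)
  refine ⟨w - v, ⟨LA.sub_mem hw hv, ?_⟩, ?_⟩
  · change NA (w - v) = 0
    rw [map_sub, hNv, sub_self]
  · rw [map_sub, hdv, sub_zero]

variable {r : ℕ} {I : ℕ → Type*} [∀ n, AddCommGroup (I n)] [∀ n, Module D (I n)]

/-- the common kernel of the first `i` operators -/
def L (N : Fin r → ∀ n, I n →ₗ[D] I n) (i : ℕ) (n : ℕ) : Submodule D (I n) :=
  ⨅ j : {j : Fin r // (j : ℕ) < i}, LinearMap.ker (N j.1 n)

theorem mem_L (N : Fin r → ∀ n, I n →ₗ[D] I n) (i : ℕ) (n : ℕ) (x : I n) :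
    x ∈ L N i n ↔ ∀ j : Fin r, (j : ℕ) < i → N j n x = 0 := by
  simp [L, Submodule.mem_iInf]

theorem L_succ (N : Fin r → ∀ n, I n →ₗ[D] I n) (i : ℕ) (hi : i < r) (n : ℕ) :
    L N (i + 1) n = L N i n ⊓ LinearMap.ker (N ⟨i, hi⟩ n) := by
  ext x
  rw [Submodule.mem_inf, mem_L, mem_L, LinearMap.mem_ker]
  constructor
  · intro h
    exact ⟨fun j hj => h j (by omega), h ⟨i, hi⟩ (by simp)⟩
  · rintro ⟨h1, h2⟩ j hj
    rcases Nat.lt_succ_iff_lt_or_eq.mp hj with h | h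
    · exact h1 j h
    · have : j = ⟨i, hi⟩ := Fin.ext h
      rw [this]; exact h2

/-- the boundaries of the subcomplex -/
def Bd (d : ∀ n, I n →ₗ[D] I (n + 1)) (P : ∀ n, Submodule D (I n)) : ∀ n, Submodule D (I n)
  | 0 => ⊥
  | n + 1 => (P n).map (d n)

/-- data: commuting operators with partial sections -/
structure Ops (D : Type*) [CommRing D] (r : ℕ) (I : ℕ → Type*) [∀ n, AddCommGroup (I n)] [∀ n, Module D (I n)]
    (d : ∀ n, I n →ₗ[D] I (n + 1)) (N : Fin r → ∀ n, I n →ₗ[D] I n) : Prop where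
  comm : ∀ i j n x, N i n (N j n x) = N j n (N i n x)
  commd : ∀ i n x, d n (N i n x) = N i (n + 1) (d n x)
  onto : ∀ (i : Fin r) n, ∀ x ∈ L N i n, ∃ y ∈ L N i n, N i n y = x

variable (d : ∀ n, I n →ₗ[D] I (n + 1)) (N : Fin r → ∀ n, I n →ₗ[D] I n)

theorem Ops.L_stable {d N} (h : Ops D r I d N) (i : ℕ) (j : Fin r) (n : ℕ) (x : I n) (hx : x ∈ L N i n) :
    N j n x ∈ L N i n := by
  rw [mem_L] at hx ⊢
  intro k hk
  rw [h.comm, hx k hk, map_zero]

theorem Ops.L_d {d N} (h : Ops D r I d N) (i : ℕ) (n : ℕ) (x : I n) (hx : x ∈ L N i n) :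
    d n x ∈ L N i (n + 1) := by
  rw [mem_L] at hx ⊢
  intro k hk
  rw [← h.commd, hx k hk, map_zero]

theorem Ops.bd {d N} (h : Ops D r I d N) (hd : ∀ n x, d (n + 1) (d n x) = 0) (i : ℕ) (hi : i < r) (n : ℕ) :
    ∀ b ∈ Bd d (L N i) n, ∃ v ∈ L N i n, d n v = 0 ∧ N ⟨i, hi⟩ n v = b := by
  cases n with
  | zero =>
    intro b hb
    exact ⟨0, zero_mem _, map_zero _, by rw [map_zero]; exact ((Submodule.mem_bot D).mp hb).symm⟩
  | succ n =>
    rintro _ ⟨u, hu, rfl⟩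
    obtain ⟨v, hv, hvu⟩ := h.onto ⟨i, hi⟩ n u hu
    exact ⟨d n v, h.L_d i n v hv, hd n v, by rw [← h.commd, hvu]⟩

/-- **P1, finiteness** -/
theorem Ops.fg [IsNoetherianRing D] {d N} (h : Ops D r I d N) (hd : ∀ n x, d (n + 1) (d n x) = 0)
    (hI : ∀ n, ∃ S : Submodule D (I n), S.FG ∧ LinearMap.ker (d n) ≤ S ⊔ Bd d (fun _ => ⊤) n) :
    ∀ i ≤ r, ∀ n, ∃ S : Submodule D (I n), S.FG ∧ L N i n ⊓ LinearMap.ker (d n) ≤ S ⊔ Bd d (L N i) n := by
  intro i
  induction i with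
  | zero =>
    intro _ n
    have h0 : L N 0 = fun n => (⊤ : Submodule D (I n)) := by
      funext n; ext x; simp [mem_L]
    rw [h0]
    obtain ⟨S, hS, h1⟩ := hI n
    exact ⟨S, hS, by simpa using h1⟩
  | succ i ih =>
    intro hi n
    have ih' := ih (by omega)
    cases n with
    | zero =>
      obtain ⟨S, hS, h1⟩ := ih' 0
      have h2 : L N (i + 1) 0 ⊓ LinearMap.ker (d 0) ≤ S := by
        refine le_trans ?_ (h1.trans ?_)
        · rw [L_succ N i (by omega)]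
          exact inf_le_inf_right _ inf_le_left
        · simp [Bd]
      have : IsNoetherian D S := isNoetherian_of_fg_of_noetherian _ hS
      exact ⟨_, Submodule.FG.of_le_of_isNoetherian h2, le_sup_left⟩
    | succ n =>
      obtain ⟨SA, hSA, hA⟩ := ih' n
      obtain ⟨SB, hSB, hB⟩ := ih' (n + 1)
      obtain ⟨S, hS, h3⟩ := step_fg (d n) (d (n + 1)) (N ⟨i, by omega⟩ n) (N ⟨i, by omega⟩ (n + 1)) (h.commd _ n)
        (L N i n) (Bd d (L N i) n) (L N i (n + 1)) (h.L_stable i _ n) (h.bd hd i (by omega) n) SA hSA hA SB hSB hB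
      refine ⟨S, hS, ?_⟩
      rw [L_succ N i (by omega)]
      change _ ≤ S ⊔ (L N (i + 1) n).map (d n)
      rw [L_succ N i (by omega)]
      exact h3

/-- **P1, vanishing** -/
theorem Ops.zero {d N} (h : Ops D r I d N) (hd : ∀ n x, d (n + 1) (d n x) = 0) (b : ℕ)
    (hI : ∀ n, b < n → LinearMap.ker (d n) ≤ Bd d (fun _ => ⊤) n) :
    ∀ i ≤ r, ∀ n, b + i < n → L N i n ⊓ LinearMap.ker (d n) ≤ Bd d (L N i) n := by
  intro i
  induction i with
  | zero =>
    intro _ n hn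
    have h0 : L N 0 = fun n => (⊤ : Submodule D (I n)) := by
      funext n; ext x; simp [mem_L]
    rw [h0]
    simpa using hI n (by omega)
  | succ i ih =>
    intro hi n hn
    have ih' := ih (by omega)
    cases n with
    | zero => omega
    | succ n =>
      have h3 := step_zero (d n) (d (n + 1)) (N ⟨i, by omega⟩ n) (N ⟨i, by omega⟩ (n + 1)) (h.commd _ n)
        (L N i n) (Bd d (L N i) n) (L N i (n + 1)) (h.L_stable i _ n) (h.bd hd i (by omega) n) (ih' n (by omega))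
        (ih' (n + 1) (by omega))
      rw [L_succ N i (by omega)]
      change _ ≤ (L N (i + 1) n).map (d n)
      rw [L_succ N i (by omega)]
      exact h3

end P1

end Groth.Agent.ResProp.EF.K601.PD
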