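import Groth.Agent.ResProp.EF.K265.HH
import Groth.Agent.ResProp.EF.K199.GPart
import Mathlib.RingTheory.Flat.FaithfullyFlat.Basic

/-!
# `G = GL_r1 × GL_rm` as a group over `k`: the universal matrices and the universal property
-/

set_option autoImplicit false
set_option linter.style.haveILetI false

universe u

open TensorProduct

noncomputable section

namespace Groth.Agent.ResProp.EF.K601

open K265 Grp

variable (k : Type u) [CommRing k] (r1 rm : ℕ)

/-- `O(GL_r1) → O(GL_r1 × GL_rm)` -/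
def il : (K653.GpGL r1 k).O →ₐc[k] (GG2 k r1 rm).O :=
  (K374.inlB : (K653.GpGL r1 k).O →ₐc[k] (K653.GpGL r1 k).O ⊗[k] (K653.GpGL rm k).O)

/-- `O(GL_rm) → O(GL_r1 × GL_rm)` -/
def ir : (K653.GpGL rm k).O →ₐc[k] (GG2 k r1 rm).O :=
  (K374.inrB : (K653.GpGL rm k).O →ₐc[k] (K653.GpGL r1 k).O ⊗[k] (K653.GpGL rm k).O)

/-- the universal element of `GL_r1` -/
def mX : Matrix (Fin r1) (Fin r1) (GG2 k r1 rm).O := (CoordGrp.GLn.genMat r1 k).map (il k r1 rm)

/-- the universal element of `GL_rm` -/
def mXm : Matrix (Fin rm) (Fin rm) (GG2 k r1 rm).O := (CoordGrp.GLn.genMat rm k).map (ir k r1 rm)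

theorem isMulMat_mX : K62.IsMulMat k (mX k r1 rm) := isMulMat_map (isMulMat_gen k r1) _

theorem isMulMat_mXm : K62.IsMulMat k (mXm k r1 rm) := isMulMat_map (isMulMat_gen k rm) _

/-- **the universal property of `GL_r1 × GL_rm`** -/
theorem isUnivGL : K199.IsUnivGL k (mX k r1 rm) (mXm k r1 rm) := by
  intro T _ _ X0 Xm0 hX0 hXm0
  let f1 : (K653.GpGL r1 k).O →ₐ[k] T := (K374.univ_gl (k := k) r1).pt X0 hX0
  let f2 : (K653.GpGL rm k).O →ₐ[k] T := (K374.univ_gl (k := k) rm).pt Xm0 hXm0
  refine ⟨Algebra.TensorProduct.productMap f1 f2, ⟨?_, ?_⟩, ?_⟩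
  · ext i j
    refine (Algebra.TensorProduct.productMap_left_apply f1 f2 (CoordGrp.GLn.genMat r1 k i j)).trans ?_
    exact (K374.univ_gl (k := k) r1).pt_apply X0 hX0 i j
  · ext i j
    refine (Algebra.TensorProduct.productMap_right_apply f1 f2 (CoordGrp.GLn.genMat rm k i j)).trans ?_
    exact (K374.univ_gl (k := k) rm).pt_apply Xm0 hXm0 i j
  · rintro γ ⟨h1, h2⟩
    refine Algebra.TensorProduct.ext ?_ ?_
    · refine (K374.univ_gl (k := k) r1).ext ?_
      ext i j
      refine (congrFun (congrFun h1 i) j).trans ?_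
      refine Eq.trans ?_ (Algebra.TensorProduct.productMap_left_apply f1 f2 (CoordGrp.GLn.genMat r1 k i j)).symm
      exact ((K374.univ_gl (k := k) r1).pt_apply X0 hX0 i j).symm
    · refine (K374.univ_gl (k := k) rm).ext ?_
      ext i j
      refine (congrFun (congrFun h2 i) j).trans ?_
      refine Eq.trans ?_ (Algebra.TensorProduct.productMap_right_apply f1 f2 (CoordGrp.GLn.genMat rm k i j)).symm
      exact ((K374.univ_gl (k := k) rm).pt_apply Xm0 hXm0 i j).symm

/-- the coordinate ring of a group is faithfully flat -/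
theorem faithfullyFlat_gp {k : Type u} [CommRing k] [Nontrivial k] (E : Gp k) : Module.FaithfullyFlat k E.O := by
  haveI : Nontrivial E.O := by
    refine ⟨⟨0, 1, fun h => ?_⟩⟩
    have := congrArg (Coalgebra.counit (R := k) (A := E.O)) h
    rw [map_zero, Bialgebra.counit_one] at this
    exact zero_ne_one this
  infer_instance

end Groth.Agent.ResProp.EF.K601
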