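import Groth.Agent.ResProp.EF.K601.FinK
import Groth.Agent.ResProp.EF.K601.Fin
import Groth.Agent.ResProp.EF.K199.GPart3
import Groth.Agent.ResProp.EF.K62.RhoPt

/-!
# The `G`-part in the form `GK`
-/

set_option autoImplicit false
set_option linter.style.haveILetI false
set_option linter.unusedSectionVars false

universe u

open TensorProduct Groth.Agent.Grpsch.AffGrpd

noncomputable section

namespace Groth.Agent.ResProp.EF.K601

open K83 K541 K199 K412

variable {A B : Type u} [CommRing A] [CommRing B] {Lb : Type u} [CommRing Lb] [Algebra Lb A] {G : RGrpd A B}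
  {D : Gen Lb G} {κ : Type u} [Field κ] {x : A →+* κ} (F : FrRing D x)
  {O : Type u} [CommRing O] [HopfAlgebra Lb O] {X : Matrix (Fin F.r1) (Fin F.r1) O}
  {Xm : Matrix (Fin F.rm) (Fin F.rm) O} (hX : K62.IsMulMat Lb X) (hXm : K62.IsMulMat Lb Xm)

theorem coAlg_sIJ (z : IJ F) :
    (K62.coAlg F hX hXm).ρ (K819.sIJ F z) = K819.sIJ F z ⊗ₜ[Lb] K62.chi F X Xm := K62.rho_sIJ F hX hXm z.1 z.2

/-- `LocK` for `F.R`, any model of the localisation -/
def gloc' (hU : K199.IsUnivGL Lb X Xm) [Module.FaithfullyFlat Lb O] (I : Fin F.r1 → Fin D.n)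
    (J : Fin F.rm → (Fin D.m → Fin D.n)) (Ds : Type u) [CommRing Ds] [Algebra F.R Ds] [Algebra A Ds] [IsScalarTower A F.R Ds]
    [IsLocalization.Away (K62.sIJ F I J) Ds] [Algebra Lb Ds] [IsScalarTower Lb F.R Ds] [IsScalarTower Lb A Ds] :
    LocK A (K62.coAlg F hX hXm) (K62.sIJ F I J) :=
  let cs : CoAlg Lb O Ds := coLoc (K62.coAlg F hX hXm) Ds (K62.isGroupLike_chi F hX hXm) (K62.rho_sIJ F hX hXm I J)
  have compat : ∀ r : F.R, cs.ρ (algebraMap F.R Ds r) =
      Algebra.TensorProduct.map (IsScalarTower.toAlgHom Lb F.R Ds) (AlgHom.id Lb O) (K62.rho F hX hXm r) :=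
    coLoc_compat (K62.coAlg F hX hXm) Ds (K62.isGroupLike_chi F hX hXm) (K62.rho_sIJ F hX hXm I J)
  haveI : Module.FaithfullyFlat (GPart.BIJ F I J Ds) Ds :=
    GPart.faithfullyFlat F I J Ds hX hXm cs.ρ compat hU
  { Ds := Ds
    cs := cs
    compat := compat
    B := GPart.BIJ F I J Ds
    fix := GPart.rho_fix F I J Ds hX hXm cs.ρ compat
    pts := GPart.ptsGal F I J Ds hX hXm cs.ρ compat hU }

theorem gloc'_gen (hU : K199.IsUnivGL Lb X Xm) [Module.FaithfullyFlat Lb O] (I : Fin F.r1 → Fin D.n)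
    (J : Fin F.rm → (Fin D.m → Fin D.n)) (Ds : Type u) [CommRing Ds] [Algebra F.R Ds] [Algebra A Ds] [IsScalarTower A F.R Ds]
    [IsLocalization.Away (K62.sIJ F I J) Ds] [Algebra Lb Ds] [IsScalarTower Lb F.R Ds] [IsScalarTower Lb A Ds]
    (b : (gloc' F hX hXm hU I J Ds).B) : b ∈ Algebra.adjoin A {y : (gloc' F hX hXm hU I J Ds).B | ∃ j : IJ F,
    algebraMap (gloc' F hX hXm hU I J Ds).B (gloc' F hX hXm hU I J Ds).Ds y *
      algebraMap F.R (gloc' F hX hXm hU I J Ds).Ds (K62.sIJ F I J) =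
      algebraMap F.R (gloc' F hX hXm hU I J Ds).Ds (K819.sIJ F j)} := by
  refine Algebra.adjoin_mono ?_ (GPart.adjoin_eq F I J Ds b)
  rintro y ⟨I', J', h⟩
  exact ⟨(I', J'), h⟩

theorem towerLoc (s : F.R) : IsScalarTower Lb A (Localization.Away s) := IsScalarTower.of_algebraMap_eq fun r => by
  rw [IsScalarTower.algebraMap_apply Lb F.R (Localization.Away s), IsScalarTower.algebraMap_apply A F.R (Localization.Away s),
    IsScalarTower.algebraMap_apply Lb A F.R]

/-- `LocK` for `F.R` -/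
def gloc (hU : K199.IsUnivGL Lb X Xm) [Module.FaithfullyFlat Lb O] (z : IJ F) :
    LocK A (K62.coAlg F hX hXm) (K62.sIJ F z.1 z.2) :=
  haveI := towerLoc F (K62.sIJ F z.1 z.2)
  gloc' F hX hXm hU z.1 z.2 (Localization.Away (K62.sIJ F z.1 z.2))

/-- **the `G`-part** -/
def gk (hU : K199.IsUnivGL Lb X Xm) [Module.FaithfullyFlat Lb O] : GK A (K62.coAlg F hX hXm) (IJ F) where
  χ := K62.chi F X Xm
  hχ := K62.isGroupLike_chi F hX hXm
  s := fun z => K62.sIJ F z.1 z.2
  hs z := K62.rho_sIJ F hX hXm z.1 z.2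
  loc z := gloc F hX hXm hU z
  gen z b :=
    haveI := towerLoc F (K62.sIJ F z.1 z.2)
    gloc'_gen F hX hXm hU z.1 z.2 (Localization.Away (K62.sIJ F z.1 z.2)) b

theorem gk_s (hU : K199.IsUnivGL Lb X Xm) [Module.FaithfullyFlat Lb O] : (gk F hX hXm hU).s = K819.sIJ F := rfl

end Groth.Agent.ResProp.EF.K601
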