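import Groth.Agent.ResProp.EF.K601.FinD
import Groth.Agent.ResProp.EF.K541.GalK
import Groth.Agent.ResProp.EF.K729.FrFF

/-!
# M8 (P7): the FIN datum of the frame algebra, `k`-form

* `isLoc_ext`, `locK_ext` : `D0` = functions on `⋃ D(s_z)`; `LocK` for `F.R` gives `LocK` for `D0`;
* `locK_frame` : `LocK` for `D0` (group `OG`) gives `LocK` for the frame algebra `D` (group `O`), same `B`;
* `finK_frame` : `FinK` for `D`.
-/

set_option autoImplicit false
set_option linter.style.haveILetI false
set_option linter.unusedSectionVars false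

universe u v

open TensorProduct

noncomputable section

namespace Groth.Agent.ResProp.EF.K601

open K83 K541 K199

/-! ### Functions on a union of `D(s_z)` -/

section Ext

variable {R D0 : Type u} [CommRing R] [CommRing D0] [Algebra R D0] {Z : Type v} (s : Z → R)

/-- `D0` = functions on `⋃ D(s_z) ⊆ Spec R` (field `pts` of `K412.MidData`) -/
def IsExt (R D0 : Type u) [CommRing R] [CommRing D0] [Algebra R D0] {Z : Type v} (s : Z → R) : Prop :=
  ∀ {T : Type u} [CommRing T] (ψ : R →+* T), Ideal.span (Set.range fun z => ψ (s z)) = ⊤ →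
    ∃! χ : D0 →+* T, χ.comp (algebraMap R D0) = ψ

variable {s}

theorem span_eq_top_of_isUnit {T : Type u} [CommRing T] (f : Z → T) (z : Z) (h : IsUnit (f z)) :
    Ideal.span (Set.range f) = ⊤ :=
  Ideal.eq_top_of_isUnit_mem _ (Ideal.subset_span ⟨z, rfl⟩) h

/-- the map `D0 → R[1/s_z]` -/
def IsExt.toLoc (H : IsExt R D0 s) (z : Z) (Ds : Type u) [CommRing Ds] [Algebra R Ds] [IsLocalization.Away (s z) Ds] :
    D0 →+* Ds :=
  (H (algebraMap R Ds) (span_eq_top_of_isUnit _ z (IsLocalization.Away.algebraMap_isUnit (s z)))).choose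

theorem IsExt.toLoc_comp (H : IsExt R D0 s) (z : Z) (Ds : Type u) [CommRing Ds] [Algebra R Ds]
    [IsLocalization.Away (s z) Ds] : (H.toLoc z Ds).comp (algebraMap R D0) = algebraMap R Ds :=
  (H (algebraMap R Ds) (span_eq_top_of_isUnit _ z (IsLocalization.Away.algebraMap_isUnit (s z)))).choose_spec.1

/-- two maps out of `D0` -/
theorem IsExt.hom_ext (H : IsExt R D0 s) {T : Type u} [CommRing T] (f f' : D0 →+* T)
    (h : f.comp (algebraMap R D0) = f'.comp (algebraMap R D0)) (hu : ∃ z, IsUnit (f (algebraMap R D0 (s z)))) : f = f' := by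
  obtain ⟨z, hz⟩ := hu
  obtain ⟨χ, -, h2⟩ := H (f.comp (algebraMap R D0)) (span_eq_top_of_isUnit _ z hz)
  exact (h2 f rfl).trans (h2 f' h.symm).symm

/-- `D0[1/s_z] = R[1/s_z]` -/
theorem isLoc_ext (H : IsExt R D0 s) (z : Z) (Ds : Type u) [CommRing Ds] [Algebra R Ds] [Algebra D0 Ds]
    [IsScalarTower R D0 Ds] [IsLocalization.Away (s z) Ds] : IsLocalization.Away (algebraMap R D0 (s z)) Ds := by
  let L := Localization.Away (algebraMap R D0 (s z))
  have hu : IsUnit (algebraMap D0 Ds (algebraMap R D0 (s z))) := by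
    rw [← IsScalarTower.algebraMap_apply R D0 Ds]
    exact IsLocalization.Away.algebraMap_isUnit (s z)
  let f : L →+* Ds := IsLocalization.Away.lift (algebraMap R D0 (s z)) hu
  have hf : f.comp (algebraMap D0 L) = algebraMap D0 Ds := IsLocalization.Away.lift_comp _ _
  have hu' : IsUnit (((algebraMap D0 L).comp (algebraMap R D0)) (s z)) :=
    IsLocalization.Away.algebraMap_isUnit (S := L) (algebraMap R D0 (s z))
  let g : Ds →+* L := IsLocalization.Away.lift (s z) hu'
  have hg : g.comp (algebraMap R Ds) = (algebraMap D0 L).comp (algebraMap R D0) := IsLocalization.Away.lift_comp _ _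
  have hfg : f.comp g = RingHom.id Ds := by
    refine IsLocalization.ringHom_ext (Submonoid.powers (s z)) ?_
    rw [RingHom.comp_assoc, hg, ← RingHom.comp_assoc, hf, RingHom.id_comp]
    exact (IsScalarTower.algebraMap_eq R D0 Ds).symm
  have hgD : g.comp (algebraMap D0 Ds) = algebraMap D0 L := by
    refine H.hom_ext _ _ ?_ ⟨z, ?_⟩
    · rw [RingHom.comp_assoc, ← IsScalarTower.algebraMap_eq R D0 Ds, hg]
    · rw [RingHom.comp_apply]
      exact hu.map g
  have hgf : g.comp f = RingHom.id L := by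
    refine IsLocalization.ringHom_ext (Submonoid.powers (algebraMap R D0 (s z))) ?_
    rw [RingHom.comp_assoc, hf, hgD, RingHom.id_comp]
  let e : L ≃ₐ[D0] Ds := AlgEquiv.ofRingEquiv (f := RingEquiv.ofRingHom f g hfg hgf) (fun x => RingHom.congr_fun hf x)
  exact IsLocalization.isLocalization_of_algEquiv (Submonoid.powers (algebraMap R D0 (s z))) e

end Ext

section LocKExt

variable {k A O R D0 : Type u} [CommRing k] [CommRing A] [Algebra k A] [CommRing O] [HopfAlgebra k O] [CommRing R]
  [Algebra k R] [Algebra A R] [IsScalarTower k A R] [CommRing D0] [Algebra k D0] [Algebra A D0]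
  [IsScalarTower k A D0] [Algebra R D0] [IsScalarTower k R D0] [IsScalarTower A R D0] {Z : Type v} {s : Z → R}

/-- **`LocK` for `R = F.R` gives `LocK` for `D0`** (same `Ds`, `cs`, `B`) -/
def locK_ext (H : IsExt R D0 s) {cF : CoAlg k O R} (c0 : CoAlg k O D0)
    (hc : ∀ x : R, c0.ρ (algebraMap R D0 x) =
      Algebra.TensorProduct.map (IsScalarTower.toAlgHom k R D0) (AlgHom.id k O) (cF.ρ x))
    (z : Z) (L : LocK A cF (s z)) : LocK A c0 (algebraMap R D0 (s z)) := by
  letI : Algebra D0 L.Ds := (H.toLoc z L.Ds).toAlgebra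
  haveI : IsScalarTower R D0 L.Ds := IsScalarTower.of_algebraMap_eq' (H.toLoc_comp z L.Ds).symm
  haveI : IsScalarTower k D0 L.Ds := IsScalarTower.of_algebraMap_eq fun r => by
    rw [IsScalarTower.algebraMap_apply k R D0, ← IsScalarTower.algebraMap_apply R D0 L.Ds,
      ← IsScalarTower.algebraMap_apply k R L.Ds]
  haveI : IsScalarTower A D0 L.Ds := IsScalarTower.of_algebraMap_eq fun r => by
    rw [IsScalarTower.algebraMap_apply A R D0, ← IsScalarTower.algebraMap_apply R D0 L.Ds,
      ← IsScalarTower.algebraMap_apply A R L.Ds]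
  haveI : IsLocalization.Away (algebraMap R D0 (s z)) L.Ds := isLoc_ext H z L.Ds
  exact
  { Ds := L.Ds
    cs := L.cs
    compat := by
      have h1 : (L.cs.ρ : L.Ds →+* L.Ds ⊗[k] O).comp (algebraMap D0 L.Ds) =
          ((Algebra.TensorProduct.map (IsScalarTower.toAlgHom k D0 L.Ds) (AlgHom.id k O) :
            D0 ⊗[k] O →ₐ[k] L.Ds ⊗[k] O) : D0 ⊗[k] O →+* L.Ds ⊗[k] O).comp (c0.ρ : D0 →+* D0 ⊗[k] O) := by
        refine H.hom_ext _ _ ?_ ⟨z, ?_⟩
        · ext x
          have e1 : ∀ y : R ⊗[k] O, Algebra.TensorProduct.map (IsScalarTower.toAlgHom k R L.Ds) (AlgHom.id k O) y =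
              Algebra.TensorProduct.map (IsScalarTower.toAlgHom k D0 L.Ds) (AlgHom.id k O)
                (Algebra.TensorProduct.map (IsScalarTower.toAlgHom k R D0) (AlgHom.id k O) y) := by
            intro y
            induction y using TensorProduct.induction_on with
            | zero => simp only [map_zero]
            | add x y hx hy => simp only [map_add, hx, hy]
            | tmul a b =>
              simp only [Algebra.TensorProduct.map_tmul, IsScalarTower.coe_toAlgHom', AlgHom.coe_id, id_eq]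
              rw [← IsScalarTower.algebraMap_apply R D0 L.Ds]
          change L.cs.ρ (algebraMap D0 L.Ds (algebraMap R D0 x)) =
            Algebra.TensorProduct.map (IsScalarTower.toAlgHom k D0 L.Ds) (AlgHom.id k O)
              (c0.ρ (algebraMap R D0 x))
          rw [← IsScalarTower.algebraMap_apply R D0 L.Ds, L.compat, hc, e1]
        · change IsUnit (L.cs.ρ (algebraMap D0 L.Ds (algebraMap R D0 (s z))))
          rw [← IsScalarTower.algebraMap_apply R D0 L.Ds]
          exact (IsLocalization.Away.algebraMap_isUnit (S := L.Ds) (s z)).map L.cs.ρ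
      exact fun x => RingHom.congr_fun h1 x
    B := L.B
    fix := L.fix
    pts := L.pts }

theorem locK_ext_Ds (H : IsExt R D0 s) {cF : CoAlg k O R} (c0 : CoAlg k O D0)
    (hc : ∀ x : R, c0.ρ (algebraMap R D0 x) =
      Algebra.TensorProduct.map (IsScalarTower.toAlgHom k R D0) (AlgHom.id k O) (cF.ρ x))
    (z : Z) (L : LocK A cF (s z)) (x : R) :
    algebraMap D0 (locK_ext H c0 hc z L).Ds (algebraMap R D0 x) = algebraMap R L.Ds x :=
  RingHom.congr_fun (H.toLoc_comp z L.Ds) x

end LocKExt

/-! ### Frame algebras -/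

section FF

variable {n : Type} [Fintype n] [DecidableEq n] {i0 : n} {B D : Type u} [CommRing B] [CommRing D] [Algebra B D] {φ : n → B}
  {g : Matrix n n D}

/-- a frame algebra is helper58's `Fr` -/
def IsFrame.equiv (h : IsFrame i0 (algebraMap B D) φ g) : K58.Fr i0 φ ≃ₐ[B] D := by
  let f : K58.Fr i0 φ →+* D := K58.Fr.lift (algebraMap B D) g h.unit h.col
  have hf1 : f.comp (algebraMap B (K58.Fr i0 φ)) = algebraMap B D := K58.Fr.lift_comp _ _ _ _
  have hf2 : (K58.mat i0 φ).map f = g := K58.Fr.lift_mat _ _ _ _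
  have h2 := h.lift (algebraMap B (K58.Fr i0 φ)) (K58.mat i0 φ) (K58.isUnit_det_mat i0 φ) (K58.mat_col i0 φ)
  let f' : D →+* K58.Fr i0 φ := h2.choose
  have hf1' : f'.comp (algebraMap B D) = algebraMap B (K58.Fr i0 φ) := h2.choose_spec.1
  have hf2' : g.map f' = K58.mat i0 φ := h2.choose_spec.2
  refine AlgEquiv.ofRingEquiv (f := RingEquiv.ofRingHom f f' ?_ ?_) (fun x => RingHom.congr_fun hf1 x)
  · refine h.ext _ _ ?_ ?_
    · rw [RingHom.comp_assoc, hf1', hf1, RingHom.id_comp]
    · have : g.map (f.comp f') = (g.map f').map f := by ext i j; rfl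
      rw [this, hf2', hf2]
      ext i j
      rfl
  · refine K58.Fr.hom_ext ?_ ?_
    · rw [RingHom.comp_assoc, hf1, hf1', RingHom.id_comp]
    · have : (K58.mat i0 φ).map (f'.comp f) = ((K58.mat i0 φ).map f).map f' := by ext i j; rfl
      rw [this, hf2, hf2']
      ext i j
      rfl

/-- a frame algebra of a unimodular vector is faithfully flat -/
theorem IsFrame.faithfullyFlat (h : IsFrame i0 (algebraMap B D) φ g) (hφ : Ideal.span (Set.range φ) = ⊤) :
    Module.FaithfullyFlat B D := by
  haveI := K729.Fr.faithfullyFlat i0 φ hφ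
  exact Module.FaithfullyFlat.of_linearEquiv B (K58.Fr i0 φ) h.equiv.symm.toLinearEquiv

end FF

section Main

variable {k A OG O D0 D : Type u} [CommRing k] [CommRing A] [Algebra k A] [CommRing OG] [HopfAlgebra k OG] [CommRing O]
  [HopfAlgebra k O] [CommRing D0] [Algebra k D0] [Algebra A D0] [IsScalarTower k A D0] [CommRing D] [Algebra k D]
  [Algebra A D] [IsScalarTower k A D] [Algebra D0 D] [IsScalarTower k D0 D] [IsScalarTower A D0 D]
  {n : Type} [Fintype n] [DecidableEq n] {i0 : n}
  {c0 : CoAlg k OG D0} {φ : n → D0} {Rm : Matrix n n OG} {iG : OG →ₐ[k] O} {h' : Matrix n n O}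
  {g : Matrix n n D} {cD : CoAlg k O D}

/-- the coaction on the image of `D0_s` -/
theorem FrData.compLoc (F : FrData (i0 := i0) c0 φ Rm iG h' g cD) {s : D0} {D0s Ds : Type u}
    [CommRing D0s] [Algebra k D0s] [Algebra D0 D0s] [IsScalarTower k D0 D0s] [IsLocalization.Away s D0s]
    (c0s : CoAlg k OG D0s)
    (compat0 : ∀ x : D0, c0s.ρ (algebraMap D0 D0s x) =
      Algebra.TensorProduct.map (IsScalarTower.toAlgHom k D0 D0s) (AlgHom.id k OG) (c0.ρ x))
    [CommRing Ds] [Algebra k Ds] [Algebra D Ds] [IsScalarTower k D Ds]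
    (cs : CoAlg k O Ds)
    (compat : ∀ x : D, cs.ρ (algebraMap D Ds x) =
      Algebra.TensorProduct.map (IsScalarTower.toAlgHom k D Ds) (AlgHom.id k O) (cD.ρ x))
    (ιs : D0s →ₐ[k] Ds) (hsq : ∀ x : D0, ιs (algebraMap D0 D0s x) = algebraMap D Ds (algebraMap D0 D x))
    (y : D0s) : cs.ρ (ιs y) = Algebra.TensorProduct.map ιs iG (c0s.ρ y) := by
  have key : cs.ρ.comp ιs = (Algebra.TensorProduct.map ιs iG).comp c0s.ρ := by
    refine K601.algHom_ext_away s D0s _ _ fun x => ?_
    have e1 : cs.ρ (ιs (algebraMap D0 D0s x)) =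
        Algebra.TensorProduct.map (IsScalarTower.toAlgHom k D Ds) (AlgHom.id k O) (cD.ρ (algebraMap D0 D x)) := by
      rw [hsq x]
      exact compat _
    have e2 : ∀ z : D0 ⊗[k] OG, Algebra.TensorProduct.map (IsScalarTower.toAlgHom k D Ds) (AlgHom.id k O)
        (Algebra.TensorProduct.map (IsScalarTower.toAlgHom k D0 D) iG z) =
        Algebra.TensorProduct.map ιs iG (Algebra.TensorProduct.map (IsScalarTower.toAlgHom k D0 D0s)
          (AlgHom.id k OG) z) := by
      intro z
      induction z using TensorProduct.induction_on with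
      | zero => simp
      | add x y hx hy => simp only [map_add, hx, hy]
      | tmul a b => simp [hsq a]
    rw [AlgHom.comp_apply, AlgHom.comp_apply, e1, F.hc1, e2, compat0]
  exact DFunLike.congr_fun key y

/-- the torsor property of the localised frame algebra, on points -/
theorem FrData.pts (F : FrData (i0 := i0) c0 φ Rm iG h' g cD) {s : D0} {D0s Ds B : Type u}
    [CommRing D0s] [Algebra k D0s] [Algebra D0 D0s] [IsScalarTower k D0 D0s] [IsLocalization.Away s D0s]
    (c0s : CoAlg k OG D0s)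
    (compat0 : ∀ x : D0, c0s.ρ (algebraMap D0 D0s x) =
      Algebra.TensorProduct.map (IsScalarTower.toAlgHom k D0 D0s) (AlgHom.id k OG) (c0.ρ x))
    [CommRing B] [Algebra B D0s]
    (pts0 : ∀ (T : Type u) [CommRing T] [Algebra k T] (f f' : D0s →ₐ[k] T),
      (∀ b : B, f (algebraMap B D0s b) = f' (algebraMap B D0s b)) →
      ∃! h : OG →ₐ[k] T, ∀ d, f' d = pair f h (c0s.ρ d))
    [CommRing Ds] [Algebra k Ds] [Algebra D Ds] [IsScalarTower k D Ds] [IsLocalization.Away (algebraMap D0 D s) Ds]
    (cs : CoAlg k O Ds)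
    (compat : ∀ x : D, cs.ρ (algebraMap D Ds x) =
      Algebra.TensorProduct.map (IsScalarTower.toAlgHom k D Ds) (AlgHom.id k O) (cD.ρ x))
    (ιs : D0s →ₐ[k] Ds) (hsq : ∀ x : D0, ιs (algebraMap D0 D0s x) = algebraMap D Ds (algebraMap D0 D x))
    (T : Type u) [CommRing T] [Algebra k T] (f f' : Ds →ₐ[k] T)
    (hff : ∀ b : B, f (ιs (algebraMap B D0s b)) = f' (ιs (algebraMap B D0s b))) :
    ∃! h : O →ₐ[k] T, ∀ d, f' d = pair f h (cs.ρ d) := by
  have hcomp := F.compLoc (s := s) c0s compat0 cs compat ιs hsq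
  have hFs : IsFrame i0 (ιs : D0s →+* Ds) (fun i => algebraMap D0 D0s (φ i)) (g.map (algebraMap D Ds)) :=
    F.hD.loc s _ (RingHom.ext hsq)
  -- the `G`-part
  obtain ⟨hG, hG1, hG2⟩ := pts0 T (f.comp ιs) (f'.comp ιs) hff
  have hG1 : ∀ y, f' (ιs y) = pair (f.comp ιs) hG (c0s.ρ y) := hG1
  -- matrices
  let gf : Matrix n n T := g.map fun x => f (algebraMap D Ds x)
  let gf' : Matrix n n T := g.map fun x => f' (algebraMap D Ds x)
  have hgf : IsUnit gf.det := by
    have := F.hD.unit.map ((f : Ds →+* T).comp (algebraMap D Ds))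
    rwa [RingHom.map_det, RingHom.mapMatrix_apply] at this
  have hgf' : IsUnit gf'.det := by
    have := F.hD.unit.map ((f' : Ds →+* T).comp (algebraMap D Ds))
    rwa [RingHom.map_det, RingHom.mapMatrix_apply] at this
  let Rt : Matrix n n T := (Rm.map hG).transpose
  have hRt : IsUnit Rt.det := by
    have := F.hRu.map (hG : OG →+* T)
    rw [RingHom.map_det, RingHom.mapMatrix_apply] at this
    rw [Matrix.det_transpose]
    exact this
  have hN : IsUnit (Rt * gf).det := by rw [Matrix.det_mul]; exact hRt.mul hgf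
  -- `f'` on the matrix
  have hmat : ∀ (h : O →ₐ[k] T), (∀ x, h (iG x) = hG x) → ∀ i j,
      pair f h (cs.ρ (algebraMap D Ds (g i j))) = (Rt * gf * h'.map h) i j := by
    intro h hh i j
    have e1 : cs.ρ (algebraMap D Ds (g i j)) =
        Algebra.TensorProduct.map (IsScalarTower.toAlgHom k D Ds) (AlgHom.id k O) (cD.ρ (g i j)) := compat _
    rw [e1, F.hc2]
    simp only [map_sum, Algebra.TensorProduct.map_tmul, pair, Algebra.TensorProduct.lift_tmul, map_mul, hh,
      AlgHom.id_apply, IsScalarTower.coe_toAlgHom']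
    rw [Matrix.mul_assoc, Matrix.mul_apply]
    refine Finset.sum_congr rfl fun k _ => ?_
    rw [Matrix.mul_apply, Finset.mul_sum]
    refine Finset.sum_congr rfl fun l _ => ?_
    simp only [Rt, gf, Matrix.transpose_apply, Matrix.map_apply]
    ring
  -- the column `i0`
  have hcol : ∀ i, (Rt * gf) i i0 = gf' i i0 := by
    intro i
    have e1 : gf' i i0 = f' (ιs (algebraMap D0 D0s (φ i))) := by
      rw [hsq]
      simp only [gf', Matrix.map_apply]
      rw [F.hD.col]
    rw [e1, hG1, compat0, F.hφ, Matrix.mul_apply]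
    simp only [map_sum, Algebra.TensorProduct.map_tmul, pair, Algebra.TensorProduct.lift_tmul,
      AlgHom.id_apply, IsScalarTower.coe_toAlgHom']
    refine Finset.sum_congr rfl fun k _ => ?_
    simp only [Rt, gf, Matrix.transpose_apply, Matrix.map_apply, AlgHom.comp_apply]
    rw [F.hD.col, hsq, mul_comm]
  -- existence
  let xh : Matrix n n T := (Rt * gf)⁻¹ * gf'
  have hxu : IsUnit xh.det := by
    rw [Matrix.det_mul]
    exact ((Matrix.isUnit_nonsing_inv_det_iff).mpr hN).mul hgf'
  have hxc : ∀ i, xh i i0 = (hG : OG →+* T) ((Pi.single i0 1 : n → OG) i) := by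
    intro i
    have e1 : xh i i0 = ((Rt * gf)⁻¹ * (Rt * gf)) i i0 := by
      simp only [xh]
      rw [Matrix.mul_apply, Matrix.mul_apply]
      exact Finset.sum_congr rfl fun k _ => by rw [hcol]
    rw [e1, Matrix.nonsing_inv_mul _ hN, Matrix.one_apply]
    by_cases h : i = i0
    · subst h; simp
    · rw [if_neg h, Pi.single_eq_of_ne h]; simp
  obtain ⟨h0, h01, h02⟩ := F.hO.lift (hG : OG →+* T) xh hxu hxc
  have h01' : ∀ x, h0 (iG x) = hG x := fun x => RingHom.congr_fun h01 x
  let h : O →ₐ[k] T := { h0 with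
    commutes' := fun r => by
      have e1 : algebraMap k O r = iG (algebraMap k OG r) := (iG.commutes r).symm
      change h0 (algebraMap k O r) = _
      rw [e1, h01', hG.commutes] }
  have hh : ∀ x, h (iG x) = hG x := h01'
  -- `f' = pair f h ∘ ρ`
  have hmain : ∀ (h : O →ₐ[k] T), (∀ x, h (iG x) = hG x) → h'.map h = xh → f' = (pair f h).comp cs.ρ := by
    intro h hh hx
    have e0 : (f' : Ds →+* T) = (((pair f h).comp cs.ρ : Ds →ₐ[k] T) : Ds →+* T) := by
      refine hFs.ext _ _ ?_ ?_
      · refine RingHom.ext fun y => ?_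
        have e2 : ∀ z : D0s ⊗[k] OG, pair f h (Algebra.TensorProduct.map ιs iG z) = pair (f.comp ιs) hG z := by
          intro z
          induction z using TensorProduct.induction_on with
          | zero => simp
          | add x y hx hy => simp only [map_add, hx, hy]
          | tmul a b => simp [pair, hh]
        change f' (ιs y) = pair f h (cs.ρ (ιs y))
        rw [hcomp, e2, hG1]
      · ext i j
        change f' (algebraMap D Ds (g i j)) = pair f h (cs.ρ (algebraMap D Ds (g i j)))
        rw [hmat h hh, hx]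
        simp only [xh]
        rw [← Matrix.mul_assoc, Matrix.mul_nonsing_inv _ hN, Matrix.one_mul]
        rfl
    exact AlgHom.ext fun x => RingHom.congr_fun e0 x
  refine ⟨h, fun d => DFunLike.congr_fun (hmain h hh h02) d, ?_⟩
  -- uniqueness
  intro q hq
  have hqG : q.comp iG = hG := by
    refine hG2 _ fun y => ?_
    have e2 : ∀ z : D0s ⊗[k] OG, pair f q (Algebra.TensorProduct.map ιs iG z) = pair (f.comp ιs) (q.comp iG) z := by
      intro z
      induction z using TensorProduct.induction_on with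
      | zero => simp
      | add x y hx hy => simp only [map_add, hx, hy]
      | tmul a b => simp [pair]
    have h1 := hq (ιs y)
    rw [hcomp, e2] at h1
    exact h1
  have hqG' : ∀ x, q (iG x) = hG x := fun x => DFunLike.congr_fun hqG x
  have hqx : h'.map q = xh := by
    have h1 : Rt * gf * h'.map q = gf' := by
      ext i j
      rw [← hmat q hqG', ← hq]
      rfl
    simp only [xh]
    rw [← h1, ← Matrix.mul_assoc, ← Matrix.mul_assoc, Matrix.mul_assoc _ Rt gf, Matrix.nonsing_inv_mul _ hN,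
      Matrix.one_mul]
  have e0 : (q : O →+* T) = (h : O →+* T) := by
    refine F.hO.ext _ _ ?_ ?_
    · refine RingHom.ext fun x => ?_
      change q (iG x) = h (iG x)
      rw [hqG', hh]
    · exact hqx.trans h02.symm
  exact AlgHom.ext fun x => RingHom.congr_fun e0 x

theorem algebraMap_loc_apply {s : D} (x : A) :
    algebraMap A (Localization.Away s) x = algebraMap D (Localization.Away s) (algebraMap A D x) :=
  IsScalarTower.algebraMap_apply A D (Localization.Away s) x

/-- **`LocK` for the frame algebra** (same `B`) -/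
def FrData.locK (F : FrData (i0 := i0) c0 φ Rm iG h' g cD) {s : D0} {χ : OG} (hχ : IsUnit χ)
    (hs : c0.ρ s = s ⊗ₜ[k] χ) (L : LocK A c0 s)
    (hφ : Ideal.span (Set.range fun i => algebraMap D0 L.Ds (φ i)) = ⊤) : LocK A cD (algebraMap D0 D s) := by
  let Ds := Localization.Away (algebraMap D0 D s)
  haveI : IsScalarTower k A Ds := IsScalarTower.of_algebraMap_eq fun r => by
    rw [IsScalarTower.algebraMap_apply k D Ds, IsScalarTower.algebraMap_apply A D Ds,
      IsScalarTower.algebraMap_apply k A D]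
  have hu : IsUnit (((algebraMap D Ds).comp (algebraMap D0 D)) s) :=
    IsLocalization.Away.algebraMap_isUnit (S := Ds) (algebraMap D0 D s)
  let j : L.Ds →+* Ds := IsLocalization.Away.lift s hu
  have hj : ∀ x, j (algebraMap D0 L.Ds x) = algebraMap D Ds (algebraMap D0 D x) := fun x =>
    IsLocalization.Away.lift_eq s hu x
  letI : Algebra L.Ds Ds := j.toAlgebra
  letI : Algebra L.B Ds := (j.comp (algebraMap L.B L.Ds)).toAlgebra
  haveI : IsScalarTower L.B L.Ds Ds := IsScalarTower.of_algebraMap_eq' rfl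
  haveI : IsScalarTower k L.Ds Ds := IsScalarTower.of_algebraMap_eq fun r => by
    change _ = j (algebraMap k L.Ds r)
    rw [IsScalarTower.algebraMap_apply k D0 L.Ds, hj, ← IsScalarTower.algebraMap_apply k D0 D,
      ← IsScalarTower.algebraMap_apply k D Ds]
  haveI : IsScalarTower A L.Ds Ds := IsScalarTower.of_algebraMap_eq fun r => by
    change _ = j (algebraMap A L.Ds r)
    rw [IsScalarTower.algebraMap_apply A D0 L.Ds, hj, ← IsScalarTower.algebraMap_apply A D0 D,
      ← IsScalarTower.algebraMap_apply A D Ds]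
  haveI : IsScalarTower A L.B Ds := IsScalarTower.of_algebraMap_eq fun r => by
    change _ = j (algebraMap L.B L.Ds (algebraMap A L.B r))
    rw [← IsScalarTower.algebraMap_apply A L.B L.Ds]
    exact IsScalarTower.algebraMap_apply A L.Ds Ds r
  let ιs : L.Ds →ₐ[k] Ds := IsScalarTower.toAlgHom k L.Ds Ds
  haveI : Module.FaithfullyFlat L.Ds Ds := by
    have hF : IsFrame i0 (algebraMap L.Ds Ds) (fun i => algebraMap D0 L.Ds (φ i)) (g.map (algebraMap D Ds)) :=
      F.hD.loc s _ (RingHom.ext hj)
    exact hF.faithfullyFlat hφ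
  haveI : Module.FaithfullyFlat L.B Ds := Module.FaithfullyFlat.trans L.B L.Ds Ds
  let cs : CoAlg k O Ds := locCoAlg cD (algebraMap D0 D s) (iG χ) (hχ.map iG) (F.hs hs) Ds
  have compat : ∀ x : D, cs.ρ (algebraMap D Ds x) =
      Algebra.TensorProduct.map (IsScalarTower.toAlgHom k D Ds) (AlgHom.id k O) (cD.ρ x) := fun x =>
    locRho_algebraMap cD (algebraMap D0 D s) (iG χ) (hχ.map iG) (F.hs hs) Ds x
  exact
  { Ds := Ds
    cs := cs
    compat := compat
    B := L.B
    fix := fun b => by
      change cs.ρ (ιs (algebraMap L.B L.Ds b)) = ιs (algebraMap L.B L.Ds b) ⊗ₜ[k] (1 : O)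
      rw [F.compLoc (s := s) L.cs L.compat cs compat ιs hj, L.fix]
      simp
    pts := fun T _ _ f f' hff => F.pts (s := s) L.cs L.compat L.pts cs compat ιs hj T f f' hff }

end Main

/-! ### The `FIN` datum without `span` and `noeth` -/

section GK

/-- `K541.FinK` without `span` and `noeth`, any finite index set -/
structure GK (A : Type u) [CommRing A] {k O D : Type u} [CommRing k] [Algebra k A] [CommRing O] [HopfAlgebra k O]
    [CommRing D] [Algebra k D] [Algebra A D] [IsScalarTower k A D] (c : CoAlg k O D) (Z : Type) : Type (u + 1) where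
  χ : O
  hχ : IsGroupLikeElem k χ
  s : Z → D
  hs : ∀ z, c.ρ (s z) = s z ⊗ₜ[k] χ
  loc : ∀ z, LocK A c (s z)
  gen : ∀ z (b : (loc z).B), b ∈ Algebra.adjoin A {y : (loc z).B | ∃ j,
    algebraMap (loc z).B (loc z).Ds y * algebraMap D (loc z).Ds (s z) = algebraMap D (loc z).Ds (s j)}

variable {k A OG O R D0 D : Type u} [CommRing k] [CommRing A] [Algebra k A] [CommRing OG] [HopfAlgebra k OG] [CommRing O]
  [HopfAlgebra k O] [CommRing R] [Algebra k R] [Algebra A R] [IsScalarTower k A R]
  [CommRing D0] [Algebra k D0] [Algebra A D0] [IsScalarTower k A D0] [Algebra R D0] [IsScalarTower k R D0]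
  [IsScalarTower A R D0] [CommRing D] [Algebra k D]
  [Algebra A D] [IsScalarTower k A D] [Algebra D0 D] [IsScalarTower k D0 D] [IsScalarTower A D0 D]
  {n : Type} [Fintype n] [DecidableEq n] {i0 : n} {Z : Type}

/-- from `F.R` to `D0` -/
def GK.ext {cF : CoAlg k OG R} (F : GK A cF Z) (H : IsExt R D0 F.s) (c0 : CoAlg k OG D0)
    (hc : ∀ x : R, c0.ρ (algebraMap R D0 x) =
      Algebra.TensorProduct.map (IsScalarTower.toAlgHom k R D0) (AlgHom.id k OG) (cF.ρ x)) : GK A c0 Z where
  χ := F.χ
  hχ := F.hχ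
  s z := algebraMap R D0 (F.s z)
  hs z := by
    rw [hc, F.hs, Algebra.TensorProduct.map_tmul]
    rfl
  loc z := locK_ext H c0 hc z (F.loc z)
  gen z b := by
    refine Algebra.adjoin_mono ?_ (F.gen z b)
    rintro y ⟨j, hj⟩
    refine ⟨j, ?_⟩
    rw [locK_ext_Ds, locK_ext_Ds]
    exact hj

variable {c0 : CoAlg k OG D0} {φ : n → D0} {Rm : Matrix n n OG} {iG : OG →ₐ[k] O} {h' : Matrix n n O}
  {g : Matrix n n D} {cD : CoAlg k O D}

/-- unimodularity of `φ` on `D(s)` -/
theorem span_loc_eq_top {s : D0} (h : s ∈ (Ideal.span (Set.range φ)).radical) (Ds : Type u) [CommRing Ds] [Algebra D0 Ds]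
    [IsLocalization.Away s Ds] : Ideal.span (Set.range fun i => algebraMap D0 Ds (φ i)) = ⊤ := by
  obtain ⟨m, hm⟩ := h
  have h1 : algebraMap D0 Ds (s ^ m) ∈ (Ideal.span (Set.range φ)).map (algebraMap D0 Ds) := Ideal.mem_map_of_mem _ hm
  rw [Ideal.map_span, ← Set.range_comp] at h1
  refine Ideal.eq_top_of_isUnit_mem _ h1 ?_
  rw [map_pow]
  exact (IsLocalization.Away.algebraMap_isUnit s).pow m

/-- **from `D0` to the frame algebra `D`** -/
def GK.frame (G : GK A c0 Z) (F : FrData (i0 := i0) c0 φ Rm iG h' g cD) (hιχ : IsGroupLikeElem k (iG G.χ))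
    (hφ : ∀ z, G.s z ∈ (Ideal.span (Set.range φ)).radical) : GK A cD Z where
  χ := iG G.χ
  hχ := hιχ
  s z := algebraMap D0 D (G.s z)
  hs z := F.hs (G.hs z)
  loc z := F.locK G.hχ.isUnit (G.hs z) (G.loc z) (span_loc_eq_top (hφ z) _)
  gen z b := by
    refine Algebra.adjoin_mono ?_ (G.gen z b)
    rintro y ⟨j, hj⟩
    refine ⟨j, ?_⟩
    let Ds := Localization.Away (algebraMap D0 D (G.s z))
    have hu : IsUnit (((algebraMap D Ds).comp (algebraMap D0 D)) (G.s z)) :=
      IsLocalization.Away.algebraMap_isUnit (S := Ds) (algebraMap D0 D (G.s z))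
    let q : (G.loc z).Ds →+* Ds := IsLocalization.Away.lift (G.s z) hu
    have hq : ∀ x, q (algebraMap D0 (G.loc z).Ds x) = algebraMap D Ds (algebraMap D0 D x) := fun x =>
      IsLocalization.Away.lift_eq (G.s z) hu x
    have h1 := congrArg q hj
    rw [map_mul, hq, hq] at h1
    exact h1

/-- **the FIN datum in `k`-form** -/
def GK.toFinK [Finite Z] [Nonempty Z] {c : CoAlg k O D} (G : GK A c Z) (span : Ideal.span (Set.range G.s) = ⊤)
    (noeth : IsNoetherianRing D) : FinK A c := by
  have hn : ∃ r, Nat.card Z = r + 1 := ⟨Nat.card Z - 1, (Nat.succ_pred_eq_of_pos Nat.card_pos).symm⟩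
  let r := hn.choose
  let e : Z ≃ Fin (r + 1) := (Finite.equivFin Z).trans (finCongr hn.choose_spec)
  exact
  { r := r
    χ := G.χ
    hχ := G.hχ
    s := fun i => G.s (e.symm i)
    hs := fun i => G.hs _
    span := by
      rw [← span]
      congr 1
      exact e.symm.surjective.range_comp G.s
    noeth := noeth
    loc := fun i => G.loc (e.symm i)
    gen := fun i b => by
      refine Algebra.adjoin_mono ?_ (G.gen (e.symm i) b)
      rintro y ⟨j, hj⟩
      exact ⟨e j, by rw [e.symm_apply_apply]; exact hj⟩ }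

end GK

end Groth.Agent.ResProp.EF.K601
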