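import Groth.Agent.ResProp.EF.K83.FinDatum
import Groth.Agent.ResProp.EF.K199.GalPts
import Groth.Agent.ResProp.EF.K58.Frame
import Mathlib.RingTheory.HopfAlgebra.TensorProduct
import Mathlib.LinearAlgebra.Matrix.NonsingularInverse
import Mathlib.RingTheory.Flat.FaithfullyFlat.Algebra
import Mathlib.RingTheory.Flat.Localization
import Mathlib.RingTheory.Localization.Away.Basic
import Mathlib.RingTheory.TensorProduct.Maps

/-!
# The FIN datum of the frame algebra `D` over `D0`, group `Stab × G`, from the Galois property of `D0[1/s]` for `G`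

(S16912, G1 | G6a; P7 of helper412's list.)  Everything on points (Yoneda).
-/

set_option autoImplicit false

universe u v

open TensorProduct

noncomputable section

namespace Groth.Agent.ResProp.EF.K601

open K83

/-! ### Localisation of a comodule algebra at a semi-invariant -/

section Loc

variable {R A D : Type u} [CommRing R] [CommRing A] [HopfAlgebra R A] [CommRing D] [Algebra R D]

theorem rTensor_eq {R A D E : Type u} [CommRing R] [CommRing A] [Algebra R A] [CommRing D] [Algebra R D] [CommRing E]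
    [Algebra R E] (f : D →ₐ[R] E) (z : D ⊗[R] A) :
    f.toLinearMap.rTensor A z = Algebra.TensorProduct.map f (AlgHom.id R A) z := by
  induction z using TensorProduct.induction_on with
  | zero => simp
  | add x y hx hy => rw [map_add, map_add, hx, hy]
  | tmul a b => simp

/-- two algebra maps out of a localisation -/
theorem algHom_ext_away (s : D) (Ds : Type u) [CommRing Ds] [Algebra R Ds] [Algebra D Ds]
    [IsLocalization.Away s Ds] {E : Type u} [CommRing E] [Algebra R E] (f f' : Ds →ₐ[R] E)
    (h : ∀ x : D, f (algebraMap D Ds x) = f' (algebraMap D Ds x)) : f = f' := by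
  have h1 : (f : Ds →+* E) = f' := IsLocalization.ringHom_ext (Submonoid.powers s) (RingHom.ext h)
  exact AlgHom.ext fun x => RingHom.congr_fun h1 x

/-- the coaction of `D` with values in `D_s ⊗ A` -/
def preRho (c : CoAlg R A D) (Ds : Type u) [CommRing Ds] [Algebra R Ds] [Algebra D Ds] [IsScalarTower R D Ds] :
    D →ₐ[R] Ds ⊗[R] A :=
  (Algebra.TensorProduct.map (IsScalarTower.toAlgHom R D Ds) (AlgHom.id R A)).comp c.ρ

theorem isUnit_preRho (c : CoAlg R A D) (s : D) (χ : A) (hχ : IsUnit χ) (hs : c.ρ s = s ⊗ₜ[R] χ) (Ds : Type u)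
    [CommRing Ds] [Algebra R Ds] [Algebra D Ds] [IsScalarTower R D Ds] [IsLocalization.Away s Ds] :
    IsUnit (preRho c Ds s) := by
  have h1 : preRho c Ds s = (algebraMap D Ds s) ⊗ₜ[R] χ := by
    simp [preRho, hs]
  have h2 : (algebraMap D Ds s) ⊗ₜ[R] χ = ((algebraMap D Ds s) ⊗ₜ[R] (1 : A)) * ((1 : Ds) ⊗ₜ[R] χ) := by simp
  rw [h1, h2]
  exact ((IsLocalization.Away.algebraMap_isUnit (S := Ds) s).map
    (Algebra.TensorProduct.includeLeft : Ds →ₐ[R] Ds ⊗[R] A)).mul
    (hχ.map (Algebra.TensorProduct.includeRight : A →ₐ[R] Ds ⊗[R] A))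

/-- the localised coaction -/
def locRho (c : CoAlg R A D) (s : D) (χ : A) (hχ : IsUnit χ) (hs : c.ρ s = s ⊗ₜ[R] χ) (Ds : Type u) [CommRing Ds]
    [Algebra R Ds] [Algebra D Ds] [IsScalarTower R D Ds] [IsLocalization.Away s Ds] : Ds →ₐ[R] Ds ⊗[R] A :=
  IsLocalization.Away.liftAlgHom s (isUnit_preRho c s χ hχ hs Ds)

variable (c : CoAlg R A D) (s : D) (χ : A) (hχ : IsUnit χ) (hs : c.ρ s = s ⊗ₜ[R] χ) (Ds : Type u) [CommRing Ds]
    [Algebra R Ds] [Algebra D Ds] [IsScalarTower R D Ds] [IsLocalization.Away s Ds]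

theorem locRho_algebraMap (x : D) : locRho c s χ hχ hs Ds (algebraMap D Ds x) =
    Algebra.TensorProduct.map (IsScalarTower.toAlgHom R D Ds) (AlgHom.id R A) (c.ρ x) := by
  rw [locRho, IsLocalization.Away.liftAlgHom_apply, IsLocalization.Away.lift_eq]
  rfl

/-- the localised comodule algebra -/
def locCoAlg : CoAlg R A Ds where
  ρ := locRho c s χ hχ hs Ds
  coassoc := by
    let F1 : Ds →ₐ[R] Ds ⊗[R] (A ⊗[R] A) := ((Algebra.TensorProduct.assoc R R R Ds A A).toAlgHom.comp
      (Algebra.TensorProduct.map (locRho c s χ hχ hs Ds) (AlgHom.id R A))).comp (locRho c s χ hχ hs Ds)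
    let F2 : Ds →ₐ[R] Ds ⊗[R] (A ⊗[R] A) :=
      (Algebra.TensorProduct.map (AlgHom.id R Ds) (Bialgebra.comulAlgHom R A)).comp (locRho c s χ hχ hs Ds)
    have key : F1 = F2 := by
      refine algHom_ext_away s Ds F1 F2 fun x => ?_
      have e1 : ∀ z : D ⊗[R] A, (Algebra.TensorProduct.assoc R R R Ds A A)
          (Algebra.TensorProduct.map (locRho c s χ hχ hs Ds) (AlgHom.id R A)
            (Algebra.TensorProduct.map (IsScalarTower.toAlgHom R D Ds) (AlgHom.id R A) z)) =
          (IsScalarTower.toAlgHom R D Ds).toLinearMap.rTensor (A ⊗[R] A)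
            (TensorProduct.assoc R D A A (c.ρ.toLinearMap.rTensor A z)) := by
        intro z
        induction z using TensorProduct.induction_on with
        | zero => simp
        | add x y hx hy => simp only [map_add, hx, hy]
        | tmul a b =>
          have h2 : ∀ w : D ⊗[R] A, (Algebra.TensorProduct.assoc R R R Ds A A)
              ((Algebra.TensorProduct.map (IsScalarTower.toAlgHom R D Ds) (AlgHom.id R A) w) ⊗ₜ[R] b) =
              (IsScalarTower.toAlgHom R D Ds).toLinearMap.rTensor (A ⊗[R] A)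
                (TensorProduct.assoc R D A A (w ⊗ₜ[R] b)) := by
            intro w
            induction w using TensorProduct.induction_on with
            | zero => simp
            | add x y hx hy => simp only [map_add, TensorProduct.add_tmul, hx, hy]
            | tmul a' b' => simp
          have h3 : Algebra.TensorProduct.map (locRho c s χ hχ hs Ds) (AlgHom.id R A)
              (Algebra.TensorProduct.map (IsScalarTower.toAlgHom R D Ds) (AlgHom.id R A) (a ⊗ₜ[R] b)) =
              (Algebra.TensorProduct.map (IsScalarTower.toAlgHom R D Ds) (AlgHom.id R A) (c.ρ a)) ⊗ₜ[R] b := by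
            rw [Algebra.TensorProduct.map_tmul, Algebra.TensorProduct.map_tmul, IsScalarTower.coe_toAlgHom',
              locRho_algebraMap]
            rfl
          rw [h3, h2, LinearMap.rTensor_tmul]
          rfl
      have e2 : ∀ z : D ⊗[R] A, Algebra.TensorProduct.map (AlgHom.id R Ds) (Bialgebra.comulAlgHom R A)
            (Algebra.TensorProduct.map (IsScalarTower.toAlgHom R D Ds) (AlgHom.id R A) z) =
          (IsScalarTower.toAlgHom R D Ds).toLinearMap.rTensor (A ⊗[R] A)
            ((Coalgebra.comul (R := R) (A := A)).lTensor D z) := by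
        intro z
        induction z using TensorProduct.induction_on with
        | zero => simp
        | add x y hx hy => simp only [map_add, hx, hy]
        | tmul a b => simp
      change (Algebra.TensorProduct.assoc R R R Ds A A)
          (Algebra.TensorProduct.map (locRho c s χ hχ hs Ds) (AlgHom.id R A) (locRho c s χ hχ hs Ds (algebraMap D Ds x))) =
        Algebra.TensorProduct.map (AlgHom.id R Ds) (Bialgebra.comulAlgHom R A) (locRho c s χ hχ hs Ds (algebraMap D Ds x))
      rw [locRho_algebraMap, e1, e2, c.coassoc]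
    intro x
    have h1 := DFunLike.congr_fun key x
    have e3 : F1 x = TensorProduct.assoc R Ds A A ((locRho c s χ hχ hs Ds).toLinearMap.rTensor A
        (locRho c s χ hχ hs Ds x)) := by
      rw [rTensor_eq]
      rfl
    have e4 : ∀ z : Ds ⊗[R] A, Algebra.TensorProduct.map (AlgHom.id R Ds) (Bialgebra.comulAlgHom R A) z =
        (Coalgebra.comul (R := R) (A := A)).lTensor Ds z := by
      intro z
      induction z using TensorProduct.induction_on with
      | zero => simp
      | add x y hx hy => simp only [map_add, hx, hy]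
      | tmul a b => simp
    rw [← e3, h1]
    exact e4 _
  counit := by
    let F1 : Ds →ₐ[R] Ds ⊗[R] R := (Algebra.TensorProduct.map (AlgHom.id R Ds) (Bialgebra.counitAlgHom R A)).comp
      (locRho c s χ hχ hs Ds)
    have key : F1 = (Algebra.TensorProduct.includeLeft : Ds →ₐ[R] Ds ⊗[R] R) := by
      refine algHom_ext_away s Ds F1 _ fun x => ?_
      have e2 : ∀ z : D ⊗[R] A, Algebra.TensorProduct.map (AlgHom.id R Ds) (Bialgebra.counitAlgHom R A)
            (Algebra.TensorProduct.map (IsScalarTower.toAlgHom R D Ds) (AlgHom.id R A) z) =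
          (IsScalarTower.toAlgHom R D Ds).toLinearMap.rTensor R
            ((Coalgebra.counit (R := R) (A := A)).lTensor D z) := by
        intro z
        induction z using TensorProduct.induction_on with
        | zero => simp
        | add x y hx hy => simp only [map_add, hx, hy]
        | tmul a b => simp
      change Algebra.TensorProduct.map (AlgHom.id R Ds) (Bialgebra.counitAlgHom R A)
        (locRho c s χ hχ hs Ds (algebraMap D Ds x)) = _
      rw [locRho_algebraMap, e2, c.counit]
      simp
    have e4 : ∀ z : Ds ⊗[R] A, Algebra.TensorProduct.map (AlgHom.id R Ds) (Bialgebra.counitAlgHom R A) z =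
        (Coalgebra.counit (R := R) (A := A)).lTensor Ds z := by
      intro z
      induction z using TensorProduct.induction_on with
      | zero => simp
      | add x y hx hy => simp only [map_add, hx, hy]
      | tmul a b => simp
    intro x
    have h1 := DFunLike.congr_fun key x
    rw [← e4]
    exact h1

end Loc

/-! ### A Galois extension on points -/

section GalPts

open K199

variable {R A D : Type u} [CommRing R] [CommRing A] [HopfAlgebra R A] [CommRing D] [Algebra R D] {c : CoAlg R A D}
  {s : D}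

theorem galLoc_coinv (G : GalLoc c s) (b : G.B) : G.cs.ρ (algebraMap G.B G.Ds b) = algebraMap G.B G.Ds b ⊗ₜ[R] (1 : A) := by
  have h1 := G.can_tmul (1 : G.Ds) (algebraMap G.B G.Ds b)
  have h2 := G.can_tmul (algebraMap G.B G.Ds b) (1 : G.Ds)
  have h3 : (1 : G.Ds) ⊗ₜ[G.B] (algebraMap G.B G.Ds b) = (algebraMap G.B G.Ds b) ⊗ₜ[G.B] (1 : G.Ds) := by
    rw [Algebra.algebraMap_eq_smul_one, TensorProduct.tmul_smul, TensorProduct.smul_tmul']
  rw [h3, h2, map_one, mul_one] at h1
  rw [h1]
  change _ = (1 : G.Ds ⊗[R] A) * _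
  rw [one_mul]

/-- the Galois property on points -/
theorem galLoc_points (G : GalLoc c s) (T : Type u) [CommRing T] [Algebra R T] (f f' : G.Ds →ₐ[R] T)
    (hff : ∀ b : G.B, f (algebraMap G.B G.Ds b) = f' (algebraMap G.B G.Ds b)) :
    ∃! h : A →ₐ[R] T, ∀ d, f' d = pair f h (G.cs.ρ d) := by
  letI : Algebra G.B T := ((f : G.Ds →+* T).comp (algebraMap G.B G.Ds)).toAlgebra
  haveI : IsScalarTower R G.B T := IsScalarTower.of_algebraMap_eq fun r => by
    change algebraMap R T r = f (algebraMap G.B G.Ds (algebraMap R G.B r))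
    rw [← IsScalarTower.algebraMap_apply R G.B G.Ds, f.commutes]
  let fB : G.Ds →ₐ[G.B] T := { (f : G.Ds →+* T) with commutes' := fun b => rfl }
  let fB' : G.Ds →ₐ[G.B] T := { (f' : G.Ds →+* T) with commutes' := fun b => (hff b).symm }
  let ff : G.Ds ⊗[G.B] G.Ds →ₐ[G.B] T := Algebra.TensorProduct.lift fB fB' (fun _ _ => Commute.all _ _)
  have hff' : ∀ a b, ff (a ⊗ₜ[G.B] b) = f a * f' b := fun a b => Algebra.TensorProduct.lift_tmul _ _ _ _ _
  let cB := canB G.cs.ρ (galLoc_coinv G)
  have hcan : ∀ z, cB z = G.can z := by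
    intro z
    induction z using TensorProduct.induction_on with
    | zero => simp
    | add x y hx hy => rw [map_add, map_add, hx, hy]
    | tmul a b => rw [canB_tmul, G.can_tmul]
  have hbij : Function.Bijective cB := by
    have : (cB : G.Ds ⊗[G.B] G.Ds → G.Ds ⊗[R] A) = G.can := funext hcan
    rw [this]
    exact G.can_bij
  let e : G.Ds ⊗[G.B] G.Ds ≃ₐ[G.B] G.Ds ⊗[R] A := AlgEquiv.ofBijective cB hbij
  have he : ∀ a b, e (a ⊗ₜ[G.B] b) = (a ⊗ₜ[R] (1 : A)) * G.cs.ρ b := fun a b => canB_tmul _ _ _ _
  let F : G.Ds ⊗[R] A →ₐ[R] T := (ff.restrictScalars R).comp ((e.symm.toAlgHom).restrictScalars R)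
  have hF : ∀ z, F (e z) = ff z := fun z => by
    change ff (e.symm (e z)) = _
    rw [e.symm_apply_apply]
  have hFl : ∀ a, F (a ⊗ₜ[R] (1 : A)) = f a := by
    intro a
    have h1 : e (a ⊗ₜ[G.B] (1 : G.Ds)) = a ⊗ₜ[R] (1 : A) := by rw [he, map_one, mul_one]
    rw [← h1, hF, hff', map_one, mul_one]
  have hFr : ∀ d, F (G.cs.ρ d) = f' d := by
    intro d
    have h1 : e ((1 : G.Ds) ⊗ₜ[G.B] d) = G.cs.ρ d := by
      rw [he]
      change (1 : G.Ds ⊗[R] A) * _ = _
      rw [one_mul]
    rw [← h1, hF, hff', map_one, one_mul]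
  refine ⟨F.comp Algebra.TensorProduct.includeRight, ?_, ?_⟩
  · intro d
    have h1 : pair f (F.comp Algebra.TensorProduct.includeRight) = F := by
      apply Algebra.TensorProduct.ext'
      intro a b
      have h2 : a ⊗ₜ[R] b = (a ⊗ₜ[R] (1 : A)) * ((1 : G.Ds) ⊗ₜ[R] b) := by simp
      have h3 : F (a ⊗ₜ[R] b) = f a * F ((1 : G.Ds) ⊗ₜ[R] b) := by rw [h2, map_mul, hFl]
      rw [pair, Algebra.TensorProduct.lift_tmul, h3]
      rfl
    rw [h1, hFr]
  · intro h' hh'
    have h1 : pair f h' = F := by
      have h2 : ∀ z, pair f h' (e z) = F (e z) := by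
        intro z
        induction z using TensorProduct.induction_on with
        | zero => simp
        | add x y hx hy => rw [map_add, map_add, map_add, hx, hy]
        | tmul a b =>
          rw [he, map_mul, map_mul, hFl, hFr, ← hh']
          congr 1
          simp [pair]
      refine AlgHom.ext fun y => ?_
      obtain ⟨z, rfl⟩ := e.surjective y
      exact h2 z
    ext x
    rw [← h1]
    simp [pair]

end GalPts

/-! ### Frames -/

/-- `D` represents `{(y, x) : y : B → T, x ∈ GL_n(T), x e_(i0) = y φ}` -/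
structure IsFrame {n : Type} [Fintype n] [DecidableEq n] (i0 : n) {B D : Type u} [CommRing B] [CommRing D]
    (ι : B →+* D) (φ : n → B) (g : Matrix n n D) : Prop where
  unit : IsUnit g.det
  col : ∀ i, g i i0 = ι (φ i)
  lift : ∀ {T : Type u} [CommRing T] (y : B →+* T) (x : Matrix n n T), IsUnit x.det → (∀ i, x i i0 = y (φ i)) →
    ∃ f : D →+* T, f.comp ι = y ∧ g.map f = x
  ext : ∀ {T : Type u} [CommRing T] (f f' : D →+* T), f.comp ι = f'.comp ι → g.map f = g.map f' → f = f'

section Frame

variable {n : Type} [Fintype n] [DecidableEq n] {i0 : n}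

/-- helper58's frame algebra -/
theorem isFrame_Fr {B : Type u} [CommRing B] (i0 : n) (φ : n → B) :
    IsFrame i0 (algebraMap B (K58.Fr i0 φ)) φ (K58.mat i0 φ) where
  unit := K58.isUnit_det_mat i0 φ
  col := K58.mat_col i0 φ
  lift y x hx hc := ⟨K58.Fr.lift y x hx hc, K58.Fr.lift_comp y x hx hc, K58.Fr.lift_mat y x hx hc⟩
  ext _ _ h1 h2 := K58.Fr.hom_ext h1 h2

variable {B D : Type u} [CommRing B] [CommRing D] {ι : B →+* D} {φ : n → B} {g : Matrix n n D}

/-- localisation of a frame algebra -/
theorem IsFrame.loc (h : IsFrame i0 ι φ g) (s : B) {Bs Ds : Type u} [CommRing Bs] [CommRing Ds] [Algebra B Bs]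
    [Algebra D Ds] [IsLocalization.Away s Bs] [IsLocalization.Away (ι s) Ds] (ιs : Bs →+* Ds)
    (hιs : ιs.comp (algebraMap B Bs) = (algebraMap D Ds).comp ι) :
    IsFrame i0 ιs (fun i => algebraMap B Bs (φ i)) (g.map (algebraMap D Ds)) where
  unit := by
    have := h.unit.map (algebraMap D Ds)
    rwa [RingHom.map_det, RingHom.mapMatrix_apply] at this
  col i := by
    rw [Matrix.map_apply, h.col, ← RingHom.comp_apply, ← hιs]; rfl
  lift {T} _ y x hx hc := by
    obtain ⟨f, hf1, hf2⟩ := h.lift (y.comp (algebraMap B Bs)) x hx hc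
    have hu : IsUnit (f (ι s)) := by
      rw [← RingHom.comp_apply, hf1]
      exact (IsLocalization.Away.algebraMap_isUnit s).map y
    refine ⟨IsLocalization.Away.lift (ι s) hu, ?_, ?_⟩
    · refine IsLocalization.ringHom_ext (Submonoid.powers s) ?_
      rw [RingHom.comp_assoc, hιs, ← RingHom.comp_assoc, IsLocalization.Away.lift_comp, hf1]
    · rw [← hf2]
      ext i j
      simp only [Matrix.map_apply]
      rw [IsLocalization.Away.lift_eq]
  ext {T} _ f f' h1 h2 := by
    refine IsLocalization.ringHom_ext (Submonoid.powers (ι s)) ?_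
    refine h.ext _ _ ?_ ?_
    · rw [RingHom.comp_assoc, RingHom.comp_assoc, ← hιs, ← RingHom.comp_assoc, h1, RingHom.comp_assoc]
    · ext i j
      have := congrFun (congrFun h2 i) j
      simpa using this

end Frame

/-! ### From the `G`-part to the `Stab × G`-part -/

section Main

open K199

variable {R OG O D0 D : Type u} [CommRing R] [CommRing OG] [HopfAlgebra R OG] [CommRing O] [HopfAlgebra R O]
  [CommRing D0] [Algebra R D0] [CommRing D] [Algebra R D] [Algebra D0 D] [IsScalarTower R D0 D]
  {n : Type} [Fintype n] [DecidableEq n] {i0 : n}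

/-- The data: `c0` the coaction of `G` on `D0`, `φ` with `ρ(φ_j) = ∑ φ_i ⊗ R_ij`, `O = O(Stab × G)` (frames over `O(G)`), `D` the
frames of `φ` over `D0`, coaction `g ↦ Rᵀ g h'`. -/
structure FrData (c0 : CoAlg R OG D0) (φ : n → D0) (Rm : Matrix n n OG) (iG : OG →ₐ[R] O) (h' : Matrix n n O)
    (g : Matrix n n D) (cD : CoAlg R O D) : Prop where
  hRu : IsUnit Rm.det
  hφ : ∀ j, c0.ρ (φ j) = ∑ i, φ i ⊗ₜ[R] Rm i j
  hO : IsFrame i0 (iG : OG →+* O) (Pi.single i0 1) h'
  hD : IsFrame i0 (algebraMap D0 D) φ g
  hc1 : ∀ x, cD.ρ (algebraMap D0 D x) = Algebra.TensorProduct.map (IsScalarTower.toAlgHom R D0 D) iG (c0.ρ x)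
  hc2 : ∀ i j, cD.ρ (g i j) = ∑ k, ∑ l, g k l ⊗ₜ[R] (iG (Rm k i) * h' l j)

variable {c0 : CoAlg R OG D0} {φ : n → D0} {Rm : Matrix n n OG} {iG : OG →ₐ[R] O} {h' : Matrix n n O}
    {g : Matrix n n D} {cD : CoAlg R O D}

theorem FrData.hs (F : FrData (i0 := i0) c0 φ Rm iG h' g cD) {s : D0} {χ : OG} (hs : c0.ρ s = s ⊗ₜ[R] χ) :
    cD.ρ (algebraMap D0 D s) = algebraMap D0 D s ⊗ₜ[R] iG χ := by
  rw [F.hc1, hs]
  simp

/-- **`GalLoc` for `D`**, with the same `B` -/
def FrData.galLoc (F : FrData (i0 := i0) c0 φ Rm iG h' g cD) {s : D0} {χ : OG} (hχ : IsUnit χ)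
    (hs : c0.ρ s = s ⊗ₜ[R] χ) (G0 : GalLoc c0 s) (Ds : Type u) [CommRing Ds] [Algebra R Ds] [Algebra D Ds]
    [IsScalarTower R D Ds] [IsLocalization.Away (algebraMap D0 D s) Ds] [Algebra G0.Ds Ds] [IsScalarTower R G0.Ds Ds]
    (hsq : ∀ x : D0, algebraMap G0.Ds Ds (algebraMap D0 G0.Ds x) = algebraMap D Ds (algebraMap D0 D x))
    [Algebra G0.B Ds] [IsScalarTower G0.B G0.Ds Ds] [IsScalarTower R G0.B Ds] [Module.FaithfullyFlat G0.B Ds] :
    GalLoc cD (algebraMap D0 D s) := by
  let cs : CoAlg R O Ds := locCoAlg cD (algebraMap D0 D s) (iG χ) (hχ.map iG) (F.hs hs) Ds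
  let ιs : G0.Ds →ₐ[R] Ds := IsScalarTower.toAlgHom R G0.Ds Ds
  -- the coaction on `D0_s`
  have hcomp : ∀ y : G0.Ds, cs.ρ (ιs y) = Algebra.TensorProduct.map ιs iG (G0.cs.ρ y) := by
    have key : cs.ρ.comp ιs = (Algebra.TensorProduct.map ιs iG).comp G0.cs.ρ := by
      refine algHom_ext_away s G0.Ds _ _ fun x => ?_
      have e1 : cs.ρ (ιs (algebraMap D0 G0.Ds x)) =
          Algebra.TensorProduct.map (IsScalarTower.toAlgHom R D Ds) (AlgHom.id R O) (cD.ρ (algebraMap D0 D x)) := by
        have h0 : ιs (algebraMap D0 G0.Ds x) = algebraMap D Ds (algebraMap D0 D x) := hsq x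
        rw [h0]
        exact locRho_algebraMap cD (algebraMap D0 D s) (iG χ) (hχ.map iG) (F.hs hs) Ds _
      have e2 : ∀ z : D0 ⊗[R] OG, Algebra.TensorProduct.map (IsScalarTower.toAlgHom R D Ds) (AlgHom.id R O)
          (Algebra.TensorProduct.map (IsScalarTower.toAlgHom R D0 D) iG z) =
          Algebra.TensorProduct.map ιs iG (Algebra.TensorProduct.map (IsScalarTower.toAlgHom R D0 G0.Ds)
            (AlgHom.id R OG) z) := by
        intro z
        induction z using TensorProduct.induction_on with
        | zero => simp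
        | add x y hx hy => simp only [map_add, hx, hy]
        | tmul a b =>
          have h0 : ιs (algebraMap D0 G0.Ds a) = algebraMap D Ds (algebraMap D0 D a) := hsq a
          simp [h0]
      rw [AlgHom.comp_apply, AlgHom.comp_apply, e1, F.hc1, e2, G0.compat]
    exact fun y => DFunLike.congr_fun key y
  have hB : ∀ b : G0.B, algebraMap G0.B Ds b = ιs (algebraMap G0.B G0.Ds b) := fun b =>
    IsScalarTower.algebraMap_apply G0.B G0.Ds Ds b
  have hFs : IsFrame i0 (ιs : G0.Ds →+* Ds) (fun i => algebraMap D0 G0.Ds (φ i)) (g.map (algebraMap D Ds)) :=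
    F.hD.loc s _ (RingHom.ext hsq)
  refine K199.galLoc Ds cs
    (fun x => locRho_algebraMap cD (algebraMap D0 D s) (iG χ) (hχ.map iG) (F.hs hs) Ds x) G0.B ?_ ?_
  · intro b
    rw [hB, hcomp, galLoc_coinv]
    simp
  · intro T _ _ f f' hff
    -- the `G`-part
    obtain ⟨hG, hG1, hG2⟩ := galLoc_points G0 T (f.comp ιs) (f'.comp ιs) (fun b => by
      have := hff b
      rw [hB] at this
      exact this)
    have hG1 : ∀ y, f' (ιs y) = pair (f.comp ιs) hG (G0.cs.ρ y) := hG1
    -- matrices
    let gf : Matrix n n T := g.map fun x => f (algebraMap D Ds x)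
    let gf' : Matrix n n T := g.map fun x => f' (algebraMap D Ds x)
    have hgf : IsUnit gf.det := by
      have := F.hD.unit.map ((f : Ds →+* T).comp (algebraMap D Ds))
      rwa [RingHom.map_det, RingHom.mapMatrix_apply] at this
    have hgf' : IsUnit gf'.det := by
      have := F.hD.unit.map ((f' : Ds →+* T).comp (algebraMap D Ds))
      rwa [RingHom.map_det, RingHom.mapMatrix_apply] at this
    let Rt : Matrix n n T := (Rm.map hG).transpose
    have hRt : IsUnit Rt.det := by
      have := F.hRu.map (hG : OG →+* T)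
      rw [RingHom.map_det, RingHom.mapMatrix_apply] at this
      rw [Matrix.det_transpose]
      exact this
    have hN : IsUnit (Rt * gf).det := by rw [Matrix.det_mul]; exact hRt.mul hgf
    -- `f'` on the matrix
    have hmat : ∀ (h : O →ₐ[R] T), (∀ x, h (iG x) = hG x) → ∀ i j,
        pair f h (cs.ρ (algebraMap D Ds (g i j))) = (Rt * gf * h'.map h) i j := by
      intro h hh i j
      have e1 : cs.ρ (algebraMap D Ds (g i j)) =
          Algebra.TensorProduct.map (IsScalarTower.toAlgHom R D Ds) (AlgHom.id R O) (cD.ρ (g i j)) :=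
        locRho_algebraMap cD (algebraMap D0 D s) (iG χ) (hχ.map iG) (F.hs hs) Ds _
      rw [e1, F.hc2]
      simp only [map_sum, Algebra.TensorProduct.map_tmul, pair, Algebra.TensorProduct.lift_tmul, map_mul, hh,
        AlgHom.id_apply, IsScalarTower.coe_toAlgHom']
      rw [Matrix.mul_assoc, Matrix.mul_apply]
      refine Finset.sum_congr rfl fun k _ => ?_
      rw [Matrix.mul_apply, Finset.mul_sum]
      refine Finset.sum_congr rfl fun l _ => ?_
      simp only [Rt, gf, Matrix.transpose_apply, Matrix.map_apply]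
      ring
    -- the column `i0`
    have hcol : ∀ i, (Rt * gf) i i0 = gf' i i0 := by
      intro i
      have e1 : gf' i i0 = f' (ιs (algebraMap D0 G0.Ds (φ i))) := by
        have h0 : ιs (algebraMap D0 G0.Ds (φ i)) = algebraMap D Ds (algebraMap D0 D (φ i)) := hsq _
        rw [h0]
        simp only [gf', Matrix.map_apply]
        rw [F.hD.col]
      rw [e1, hG1, G0.compat, F.hφ, Matrix.mul_apply]
      simp only [map_sum, Algebra.TensorProduct.map_tmul, pair, Algebra.TensorProduct.lift_tmul,
        AlgHom.id_apply, IsScalarTower.coe_toAlgHom']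
      refine Finset.sum_congr rfl fun k _ => ?_
      have h0 : ιs (algebraMap D0 G0.Ds (φ k)) = algebraMap D Ds (algebraMap D0 D (φ k)) := hsq _
      simp only [Rt, gf, Matrix.transpose_apply, Matrix.map_apply, AlgHom.comp_apply]
      rw [F.hD.col, h0, mul_comm]
    -- existence
    let xh : Matrix n n T := (Rt * gf)⁻¹ * gf'
    have hxu : IsUnit xh.det := by
      rw [Matrix.det_mul]
      exact ((Matrix.isUnit_nonsing_inv_det_iff).mpr hN).mul hgf'
    have hxc : ∀ i, xh i i0 = (hG : OG →+* T) ((Pi.single i0 1 : n → OG) i) := by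
      intro i
      have e1 : xh i i0 = ((Rt * gf)⁻¹ * (Rt * gf)) i i0 := by
        simp only [xh]
        rw [Matrix.mul_apply, Matrix.mul_apply]
        exact Finset.sum_congr rfl fun k _ => by rw [hcol]
      rw [e1, Matrix.nonsing_inv_mul _ hN, Matrix.one_apply]
      by_cases h : i = i0
      · subst h; simp
      · rw [if_neg h, Pi.single_eq_of_ne h]; simp
    obtain ⟨h0, h01, h02⟩ := F.hO.lift (hG : OG →+* T) xh hxu hxc
    have h01' : ∀ x, h0 (iG x) = hG x := fun x => RingHom.congr_fun h01 x
    let h : O →ₐ[R] T := { h0 with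
      commutes' := fun r => by
        have e1 : algebraMap R O r = iG (algebraMap R OG r) := (iG.commutes r).symm
        change h0 (algebraMap R O r) = _
        rw [e1, h01', hG.commutes] }
    have hh : ∀ x, h (iG x) = hG x := h01'
    -- `f' = pair f h ∘ ρ`
    have hmain : ∀ (h : O →ₐ[R] T), (∀ x, h (iG x) = hG x) → h'.map h = xh → f' = (pair f h).comp cs.ρ := by
      intro h hh hx
      have e0 : (f' : Ds →+* T) = (((pair f h).comp cs.ρ : Ds →ₐ[R] T) : Ds →+* T) := by
        refine hFs.ext _ _ ?_ ?_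
        · refine RingHom.ext fun y => ?_
          have e2 : ∀ z : G0.Ds ⊗[R] OG, pair f h (Algebra.TensorProduct.map ιs iG z) = pair (f.comp ιs) hG z := by
            intro z
            induction z using TensorProduct.induction_on with
            | zero => simp
            | add x y hx hy => simp only [map_add, hx, hy]
            | tmul a b => simp [pair, hh]
          change f' (ιs y) = pair f h (cs.ρ (ιs y))
          rw [hcomp, e2, hG1]
        · ext i j
          change f' (algebraMap D Ds (g i j)) = pair f h (cs.ρ (algebraMap D Ds (g i j)))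
          rw [hmat h hh, hx]
          simp only [xh]
          rw [← Matrix.mul_assoc, Matrix.mul_nonsing_inv _ hN, Matrix.one_mul]
          rfl
      exact AlgHom.ext fun x => RingHom.congr_fun e0 x
    refine ⟨h, fun d => DFunLike.congr_fun (hmain h hh h02) d, ?_⟩
    -- uniqueness
    intro k hk
    have hkG : k.comp iG = hG := by
      refine hG2 _ fun y => ?_
      have e2 : ∀ z : G0.Ds ⊗[R] OG, pair f k (Algebra.TensorProduct.map ιs iG z) = pair (f.comp ιs) (k.comp iG) z := by
        intro z
        induction z using TensorProduct.induction_on with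
        | zero => simp
        | add x y hx hy => simp only [map_add, hx, hy]
        | tmul a b => simp [pair]
      have h1 := hk (ιs y)
      rw [hcomp, e2] at h1
      exact h1
    have hkG' : ∀ x, k (iG x) = hG x := fun x => DFunLike.congr_fun hkG x
    have hkx : h'.map k = xh := by
      have h1 : Rt * gf * h'.map k = gf' := by
        ext i j
        rw [← hmat k hkG', ← hk]
        rfl
      simp only [xh]
      rw [← h1, ← Matrix.mul_assoc, ← Matrix.mul_assoc, Matrix.mul_assoc _ Rt gf, Matrix.nonsing_inv_mul _ hN,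
        Matrix.one_mul]
    have e0 : (k : O →+* T) = (h : O →+* T) := by
      refine F.hO.ext _ _ ?_ ?_
      · refine RingHom.ext fun x => ?_
        change k (iG x) = h (iG x)
        rw [hkG', hh]
      · exact hkx.trans h02.symm
    exact AlgHom.ext fun x => RingHom.congr_fun e0 x

end Main

end Groth.Agent.ResProp.EF.K601
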