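import Groth.Agent.ResProp.EF.K601.Gk
import Groth.Agent.ResProp.EF.K601.GG2
import Groth.Agent.ResProp.EF.K58.FrMid

/-!
# M8 of G1, final form: field `fin` of the cover datum
-/

set_option autoImplicit false
set_option linter.style.haveILetI false
set_option linter.unusedSectionVars false

universe u

open TensorProduct Groth.Agent.Grpsch.AffGrpd

noncomputable section

namespace Groth.Agent.ResProp.EF.K601

open K83 K541 K199 K412

variable {A B : Type u} [CommRing A] [CommRing B] {Lb : Type u} [CommRing Lb] [Algebra Lb A] {G : RGrpd A B}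
  {D : Gen Lb G} {κ : Type u} [Field κ] {x : A →+* κ} {F : FrRing D x}

section General

variable {M : MidData F} {G' : Grp.Gp Lb} {X : Matrix (Fin F.r1) (Fin F.r1) G'.O} {Xm : Matrix (Fin F.rm) (Fin F.rm) G'.O}
  {hX : K62.IsMulMat Lb X} {hXm : K62.IsMulMat Lb Xm} {c : CoMid M hX hXm} (P : PhiDat M c.cB)
  [Algebra A M.D0] [IsScalarTower Lb A M.D0] (hA : algebraMap A M.D0 = M.p)

include hA in
/-- the coaction on `D` is `A`-linear -/
theorem linR_DD : LinR A (K58.coD P) := linR M c hA (K58.frdD P)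

/-- **M8** in `k`-form, any group `G'` with the universal property of `GL_r1 × GL_rm` -/
def finKTop [IsNoetherianRing A] [Nontrivial Lb] (hU : K199.IsUnivGL Lb X Xm) : FinK A (K58.coD P) :=
  haveI := faithfullyFlat_gp G'
  finK M c hA (gk F hX hXm hU) (gk_s F hX hXm hU) P.mem P.rad (K58.frdD P)

/-- **M8** over `A` -/
def finTop [IsNoetherianRing A] [Nontrivial Lb] (hU : K199.IsUnivGL Lb X Xm) :
    K83.FinDatum A (A ⊗[Lb] (K374.HH Lb P.N G').O) (K58.DD P) (coR (K58.coD P) (linR_DD P hA)) :=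
  (finKTop P hA hU).toR (linR_DD P hA)

end General

section Final

variable {M : MidData F} {c : CoMid M (isMulMat_mX Lb F.r1 F.rm) (isMulMat_mXm Lb F.r1 F.rm)} (P : PhiDat M c.cB)
  [Algebra A M.D0] [IsScalarTower Lb A M.D0] (hA : algebraMap A M.D0 = M.p)

/-- **M8 for `H = HHG`** -/
def finGL [IsNoetherianRing A] [Nontrivial Lb] :
    K83.FinDatum A (A ⊗[Lb] (K265.HHG Lb P.N F.r1 F.rm).O) (K58.DD P) (coR (K58.coD P) (linR_DD P hA)) :=
  finTop P hA (isUnivGL Lb F.r1 F.rm)

end Final

end Groth.Agent.ResProp.EF.K601
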